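import Cfsg.Agent.Lib.FiveOrbits.Theta
import Cfsg.Agent.Lib.Solvable.Fitting
import Cfsg.Agent.Lib.Solvable.FixedPointFree
import Cfsg.Agent.Lib.Char.CoprimeCount
import Mathlib.GroupTheory.SchurZassenhaus
import Mathlib.Algebra.Ring.GeomSum
import Mathlib.Data.ZMod.Basic

/-!
# Five orbits: the involution centralisers without normal subgroups of odd order
-/

set_option autoImplicit false
set_option linter.style.haveILetI false
set_option linter.unusedSectionVars false

namespace Cfsg.Agent.FiveOrbits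

open Cfsg.Agent.Invol Cfsg.Agent.CNSimple
open scoped IsMulCommutative

universe u

theorem exp_le_one {p a n : ℕ} (hp : p.Prime) (hp2 : p ≠ 2) (h : p ^ a + 1 = 2 ^ n) : a ≤ 1 := by
  by_contra ha
  push Not at ha
  have hodd : Odd p := hp.odd_of_ne_two hp2
  rcases Nat.even_or_odd a with ⟨b, hb⟩ | hao
  · obtain ⟨c, hc⟩ := hodd.pow (n := b)
    have e : p ^ a + 1 = 2 * (2 * (c * c + c) + 1) := by
      rw [hb, pow_add, hc]; ring
    have h9 : 9 ≤ p ^ a := by
      calc 9 = 3 ^ 2 := rfl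
        _ ≤ p ^ 2 := Nat.pow_le_pow_left (by have := hp.two_le; omega) 2
        _ ≤ p ^ a := Nat.pow_le_pow_right hp.pos ha
    rcases n with _ | _ | n
    · omega
    · omega
    · rw [e, pow_succ, pow_succ] at h
      omega
  · set Q : ℤ := ∑ i ∈ Finset.range a, (-(p : ℤ)) ^ i with hQ
    have e : Q * ((p : ℤ) + 1) = (p : ℤ) ^ a + 1 := by
      have := geom_sum_mul (-(p : ℤ)) a
      rw [hao.neg_pow] at this
      linarith
    have hQo : (Q : ZMod 2) = 1 := by
      rw [hQ]
      push_cast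
      have h1 : (p : ZMod 2) = 1 := ZMod.natCast_eq_one_iff_odd.2 hodd
      rw [h1, ZMod.neg_eq_self_mod_two]
      simp [ZMod.natCast_eq_one_iff_odd.2 hao]
    have hd : Q.natAbs ∣ 2 ^ n := by
      refine ⟨p + 1, ?_⟩
      have := congrArg Int.natAbs e
      rw [Int.natAbs_mul, show ((p : ℤ) + 1).natAbs = p + 1 by omega] at this
      rw [this, ← h]
      exact_mod_cast (Int.natAbs_natCast (p ^ a + 1))
    obtain ⟨k, -, hk⟩ := (Nat.dvd_prime_pow Nat.prime_two).1 hd
    have hk0 : k = 0 := by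
      by_contra hk0
      have h2 : (2 : ℤ) ∣ Q := Int.natCast_dvd.2 (hk ▸ dvd_pow_self 2 hk0)
      obtain ⟨c, hc⟩ := h2
      rw [hc] at hQo
      push_cast at hQo
      rw [show (2 : ZMod 2) = 0 from rfl, zero_mul] at hQo
      exact zero_ne_one hQo
    have hQ1 : Q = 1 := by
      rw [hk0, pow_zero] at hk
      rcases Int.natAbs_eq Q with e' | e' <;> rw [hk] at e'
      · exact e'
      · exfalso
        rw [e'] at e
        have : (0 : ℤ) ≤ (p : ℤ) ^ a := by positivity
        push_cast at e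
        linarith
    rw [hQ1, one_mul] at e
    have hpa : p = p ^ a := by exact_mod_cast (add_right_cancel e)
    have : p ^ 1 < p ^ a := Nat.pow_lt_pow_right hp.one_lt ha
    rw [pow_one] at this
    omega

variable {G : Type u} [Group G] [Finite G]

/-- A group of exponent `r` whose non-trivial elements have their centralisers in `X` inside `Y`
has order `r` unless `X ≤ Y`. -/
theorem card_eq_or_le {r : ℕ} (hr : r.Prime) {R X Y : Subgroup G} (hR1 : R ≠ ⊥)
    (hexp : ∀ a ∈ R, a ^ r = 1) (hn : R ≤ Subgroup.normalizer (X : Set G))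
    (hcop : (Nat.card X).Coprime r) (hY : ∀ a ∈ R, a ≠ 1 → X ⊓ Subgroup.centralizer {a} ≤ Y) :
    Nat.card R = r ∨ X ≤ Y := by
  classical
  haveI := Fact.mk hr
  have hRp : IsPGroup r R := fun a => ⟨1, Subtype.ext (by rw [pow_one]; exact hexp a a.2)⟩
  haveI : Nontrivial R := (Subgroup.nontrivial_iff_ne_bot R).2 hR1
  haveI := hRp.center_nontrivial
  obtain ⟨⟨⟨c, hcR⟩, hcc⟩, hc1⟩ := exists_ne (1 : Subgroup.center R)
  have hc1' : c ≠ 1 := fun e => hc1 (Subtype.ext (Subtype.ext e))
  have hco : orderOf c = r := orderOf_eq_prime (hexp c hcR) hc1'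
  by_cases hall : R ≤ Subgroup.zpowers c
  · left
    rw [le_antisymm hall (Subgroup.zpowers_le.2 hcR), Nat.card_zpowers, hco]
  right
  obtain ⟨x, hxR, hxc⟩ := SetLike.not_le_iff_exists.1 hall
  set A : Subgroup G := Subgroup.zpowers c ⊔ Subgroup.zpowers x with hA
  have hAR : A ≤ R := sup_le (Subgroup.zpowers_le.2 hcR) (Subgroup.zpowers_le.2 hxR)
  have hcx : Commute c x :=
    (congrArg Subtype.val (Subgroup.mem_center_iff.1 hcc ⟨x, hxR⟩)).symm
  haveI : IsMulCommutative A := by
    rw [hA, Subgroup.zpowers_eq_closure, Subgroup.zpowers_eq_closure, ← Subgroup.closure_union]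
    refine Subgroup.isMulCommutative_closure ?_
    rintro a (rfl | rfl) b (rfl | rfl)
    · rfl
    · exact hcx.eq
    · exact hcx.symm.eq
    · rfl
  have hnc : ¬ IsCyclic A := fun hcy => by
    obtain ⟨g, hg⟩ := IsCyclic.exists_generator (α := A)
    have hAg : A ≤ Subgroup.zpowers (g : G) := fun a ha => by
      obtain ⟨k, hk⟩ := Subgroup.mem_zpowers_iff.1 (hg ⟨a, ha⟩)
      exact ⟨k, congrArg Subtype.val hk⟩
    have hle : Nat.card A ≤ r := by
      refine (Subgroup.card_le_of_le hAg).trans ?_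
      rw [Nat.card_zpowers]
      exact Nat.le_of_dvd hr.pos (orderOf_dvd_of_pow_eq_one (hexp g (hAR g.2)))
    have e : Subgroup.zpowers c = A := Subgroup.eq_of_le_of_card_ge le_sup_left
      (hle.trans (le_of_eq (by rw [Nat.card_zpowers, hco])))
    exact hxc (e ▸ Subgroup.mem_sup_right (Subgroup.mem_zpowers x))
  have hcopA : (Nat.card A).Coprime (Nat.card X) := by
    obtain ⟨k, hk⟩ := IsPGroup.iff_card.1 (hRp.to_le hAR)
    rw [hk]
    exact hcop.symm.pow_left k
  exact (CoprimeAct.generated_by_centralizers hnc (hAR.trans hn) hcopA).ge.trans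
    (iSup₂_le fun a ha => hY a (hAR ha.1) ha.2)

theorem zpowers_le_normalizer_of_mem {g : G} {X : Subgroup G}
    (hg : g ∈ Subgroup.normalizer (X : Set G)) :
    Subgroup.zpowers g ≤ Subgroup.normalizer (X : Set G) := Subgroup.zpowers_le.2 hg

namespace Setup

variable {p q : ℕ} (h : Setup G p q) [IsSimpleGroup G] (hnc : ∃ a b : G, a * b ≠ b * a)
  (hN : ∀ t : G, orderOf t = 2 → NoOddAt t)
include h hnc hN

theorem Ct_le_normalizer {t : G} (ht : orderOf t = 2) (S : Sylow 2 G)
    (hS : (S : Subgroup G) ≤ Ct t) : Ct t ≤ Subgroup.normalizer ((S : Subgroup G) : Set G) := by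
  haveI : Fact (Nat.Prime 2) := ⟨Nat.prime_two⟩
  haveI := h.solvable_Ct (x := t) (Or.inl ht)
  set C := Ct t with hC
  have hcore : Cfsg.pPrimeCore 2 C = ⊥ := by
    have hco := FittingCores.pPrimeCore_coprime (G := C) 2
    haveI : (Cfsg.pPrimeCore 2 C).Normal := FittingCores.pPrimeCore_normal 2
    have hb := hN t ht ((Cfsg.pPrimeCore 2 C).map C.subtype) (Subgroup.map_subtype_le _) ?_ ?_
    · exact (Subgroup.map_eq_bot_iff_of_injective _ C.subtype_injective).1 hb
    · intro g hg
      refine Subgroup.mem_normalizer_iff.2 fun n => ?_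
      constructor
      · rintro ⟨m, hm, rfl⟩
        exact ⟨⟨g, hg⟩ * m * ⟨g, hg⟩⁻¹, Subgroup.Normal.conj_mem ‹_› m hm _, rfl⟩
      · rintro ⟨m, hm, e⟩
        refine ⟨⟨g, hg⟩⁻¹ * m * ⟨g, hg⟩,
          Subgroup.Normal.conj_mem' ‹_› m hm _, ?_⟩
        show g⁻¹ * (C.subtype m) * g = n
        rw [e]; group
    · rw [Subgroup.card_map_of_injective C.subtype_injective]
      exact Nat.coprime_two_right.1 hco
  set S' : Sylow 2 C := S.subtype hS with hS'
  have hle : Cfsg.pCore 2 C ≤ (S' : Subgroup C) := FittingCores.pCore_le_sylow S'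
  have hcent : (S' : Subgroup C) ≤ Subgroup.centralizer (Cfsg.pCore 2 C : Set C) := fun a ha =>
    Subgroup.mem_centralizer_iff.2 fun b hb => Subtype.ext
      (h.two_group_comm S.isPGroup' (hle hb) ha)
  have heq : (S' : Subgroup C) = Cfsg.pCore 2 C :=
    le_antisymm (hcent.trans (FittingCores.centralizer_pCore_le Nat.prime_two hcore)) hle
  haveI : (Cfsg.pCore 2 C).Normal := FittingCores.pCore_normal 2
  haveI : ((S : Subgroup G).subgroupOf C).Normal := by
    rw [show (S : Subgroup G).subgroupOf C = (S' : Subgroup C) from rfl, heq]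
    infer_instance
  exact Subgroup.le_normalizer_of_normal_subgroupOf hS

theorem cent_le {S : Sylow 2 G} {u : G} (hu : u ∈ (S : Subgroup G)) (hu1 : u ≠ 1) :
    Ct u ≤ Subgroup.normalizer ((S : Subgroup G) : Set G) :=
  h.Ct_le_normalizer hnc hN (order_two_of_sq (h.two_group_sq S.isPGroup' hu) hu1) S
    fun a ha => mem_Ct.2 (h.two_group_comm S.isPGroup' ha hu)

theorem mem_of_sq {S : Sylow 2 G} {u : G}
    (hu : u ∈ Subgroup.normalizer ((S : Subgroup G) : Set G)) (hu2 : u * u = 1) :
    u ∈ (S : Subgroup G) := by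
  haveI : Fact (Nat.Prime 2) := ⟨Nat.prime_two⟩
  have hU : IsPGroup 2 (Subgroup.zpowers u) := by
    rcases em (u = 1) with rfl | hu1
    · exact IsPGroup.of_card (n := 0) (by rw [Nat.card_zpowers, orderOf_one, pow_zero])
    · exact IsPGroup.of_card (n := 1)
        (by rw [Nat.card_zpowers, Invol.order_two_of_sq hu2 hu1, pow_one])
  exact (le_sup_right.trans (S.3 (S.isPGroup'.to_sup_of_normal_left' hU
    (Subgroup.zpowers_le.2 hu)) le_sup_left).le) (Subgroup.mem_zpowers u)

theorem ti {S : Sylow 2 G} {g u : G} (hu : u ∈ (S : Subgroup G)) (hu1 : u ≠ 1)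
    (hgu : g * u * g⁻¹ ∈ (S : Subgroup G)) :
    g ∈ Subgroup.normalizer ((S : Subgroup G) : Set G) := by
  have hv1 : g * u * g⁻¹ ≠ 1 := fun e => hu1 (conj_eq_one_iff.1 e)
  have key : ∀ s ∈ (S : Subgroup G), g * s * g⁻¹ ∈ (S : Subgroup G) := by
    intro s hs
    refine h.mem_of_sq hnc hN (h.cent_le hnc hN hgu hv1 (mem_Ct.2 ?_)) ?_
    · calc g * s * g⁻¹ * (g * u * g⁻¹) = g * (s * u) * g⁻¹ := by group
        _ = g * (u * s) * g⁻¹ := by rw [h.two_group_comm S.isPGroup' hs hu]
        _ = _ := by group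
    · rw [show g * s * g⁻¹ * (g * s * g⁻¹) = g * (s * s) * g⁻¹ by group,
        h.two_group_sq S.isPGroup' hs]
      group
  refine Subgroup.mem_normalizer_iff.2 fun s => ⟨key s, fun hs => ?_⟩
  have hbij : Function.Bijective
      (fun x : (S : Subgroup G) => (⟨g * x * g⁻¹, key x x.2⟩ : (S : Subgroup G))) := by
    refine (Finite.injective_iff_bijective).1 fun x y e => Subtype.ext ?_
    exact mul_left_cancel (mul_right_cancel (congrArg Subtype.val e))
  obtain ⟨x, hx⟩ := hbij.2 ⟨_, hs⟩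
  rw [← mul_left_cancel (mul_right_cancel (congrArg Subtype.val hx))]
  exact x.2

theorem transitive {S : Sylow 2 G} {u v : G} (hu : u ∈ (S : Subgroup G)) (hu1 : u ≠ 1)
    (hv : v ∈ (S : Subgroup G)) (hv1 : v ≠ 1) :
    ∃ g ∈ Subgroup.normalizer ((S : Subgroup G) : Set G), g * u * g⁻¹ = v := by
  set M := Subgroup.normalizer ((S : Subgroup G) : Set G) with hM
  -- an involution outside the normaliser
  obtain ⟨w, hw, hwM⟩ : ∃ w : G, orderOf w = 2 ∧ w ∉ M := by
    by_contra hcon
    push Not at hcon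
    have hall : ∀ g : G, g ∈ M := fun g => by
      have h2 : orderOf (g * u * g⁻¹) = 2 := by
        rw [show g * u * g⁻¹ = MulAut.conj g u from rfl, MulEquiv.orderOf_eq]
        exact order_two_of_sq (h.two_group_sq S.isPGroup' hu) hu1
      exact h.ti hnc hN hu hu1 (h.mem_of_sq hnc hN (hcon _ h2) (Invol.mul_self h2))
    have hnorm : (S : Subgroup G).Normal :=
      ⟨fun s hs g => (Subgroup.mem_normalizer_iff.1 (hall g) s).1 hs⟩
    rcases IsSimpleGroup.eq_bot_or_eq_top_of_normal _ hnorm with e | e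
    · exact hu1 (Subgroup.mem_bot.1 (e ▸ hu))
    · obtain ⟨a, b, hab⟩ := hnc
      exact hab (h.two_group_comm S.isPGroup' (e ▸ Subgroup.mem_top a) (e ▸ Subgroup.mem_top b))
  have key : ∀ x ∈ (S : Subgroup G), x ≠ 1 → IsConj x w := by
    intro x hx hx1
    have hxo : orderOf x = 2 := order_two_of_sq (h.two_group_sq S.isPGroup' hx) hx1
    rcases Nat.even_or_odd (orderOf (x * w)) with ⟨m, hm⟩ | ho
    · exfalso
      have hm0 : 0 < m := by have := orderOf_pos (x * w); omega
      set c := (x * w) ^ m with hc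
      have hc1 : c ≠ 1 := fun e => by
        have := Nat.le_of_dvd hm0 (orderOf_dvd_of_pow_eq_one e)
        omega
      have hcc : c * c = 1 := by rw [hc, ← pow_add, ← hm, pow_orderOf_eq_one]
      have hci : c⁻¹ = c := inv_eq_of_mul_eq_one_right hcc
      have hxc : c * x = x * c := by
        have e : x * c * x⁻¹ = c := by
          rw [hc, ← _root_.conj_pow, Invol.conj_mul hxo hw, inv_pow, ← hc, hci]
        calc c * x = x * c * x⁻¹ * x := by rw [e]
          _ = x * c := by group
      have hcS : c ∈ (S : Subgroup G) :=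
        h.mem_of_sq hnc hN (h.cent_le hnc hN hx hx1 (mem_Ct.2 hxc)) hcc
      refine hwM (h.cent_le hnc hN hcS hc1 (mem_Ct.2 ?_))
      have e : w = x⁻¹ * (x * w) := by group
      have c1 : Commute c x := hxc
      have c2 : Commute c (x * w) := (Commute.refl (x * w)).pow_left m
      rw [e]
      exact (c1.inv_right.mul_right c2).symm.eq
    · obtain ⟨d, -, hd⟩ := Invol.conj_of_odd hxo hw ho
      exact isConj_iff.2 ⟨d, hd⟩
  obtain ⟨g, hg⟩ := isConj_iff.1 ((key u hu hu1).trans (key v hv hv1).symm)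
  exact ⟨g, h.ti hnc hN hu hu1 (hg ▸ hv), hg⟩

theorem q_fpf {g u : G} (hg : orderOf g = q) (hu : u * u = 1) (hgu : g * u = u * g) : u = 1 := by
  by_contra hu1
  have hd := h.dvd_two_mul (Or.inl (order_two_of_sq hu hu1)) hgu
  rw [hg] at hd
  rcases h.hq.dvd_mul.1 hd with e | e
  · exact h.q2 ((Nat.prime_dvd_prime_iff_eq h.hq Nat.prime_two).1 e)
  · exact h.pq ((Nat.prime_dvd_prime_iff_eq h.hq h.hp).1 e).symm

theorem p_q_fpf {g x : G} (hg : orderOf g = q) (hx : x ^ p = 1) (hgx : g * x = x * g) : x = 1 := by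
  by_contra hx1
  have hd := h.dvd_two_mul (Or.inr (h.order_prime hx hx1)) hgx
  rw [hg] at hd
  rcases h.hq.dvd_mul.1 hd with e | e
  · exact h.q2 ((Nat.prime_dvd_prime_iff_eq h.hq Nat.prime_two).1 e)
  · exact h.pq ((Nat.prime_dvd_prime_iff_eq h.hq h.hp).1 e).symm

/-- A `p`-group normalised by an element of order `q` acting without fixed points centralises
every abelian group on which both act. -/
theorem frobenius (S : Sylow 2 G) {R : Subgroup G}
    (hR : R ≤ Subgroup.normalizer ((S : Subgroup G) : Set G)) (hexp : ∀ x ∈ R, x ^ p = 1)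
    {u : G} (hu : orderOf u = q) (huS : u ∈ Subgroup.normalizer ((S : Subgroup G) : Set G))
    (huR : u ∈ Subgroup.normalizer (R : Set G)) :
    R ≤ Subgroup.centralizer ((S : Subgroup G) : Set G) := by
  classical
  intro r₀ hr₀
  rw [Subgroup.mem_centralizer_iff]
  intro s hs
  haveI : IsMulCommutative (S : Subgroup G) :=
    IsMulCommutative.of_comm fun a b => Subtype.ext (h.two_group_comm S.isPGroup' a.2 b.2)
  haveI := Fintype.ofFinite R
  haveI := Fintype.ofFinite (Subgroup.zpowers u)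
  set M := Subgroup.normalizer ((S : Subgroup G) : Set G) with hM
  let Q := Subgroup.zpowers u
  let φ : M →* MulAut (S : Subgroup G) := (S : Subgroup G).normalizerMonoidHom
  have hφ : ∀ (g : M) (x : (S : Subgroup G)), ((φ g x : (S : Subgroup G)) : G) = g * x * (g : G)⁻¹ :=
    fun _ _ => rfl
  let ι : R → M := fun r => ⟨r, hR r.2⟩
  let κ : Q → M := fun e => ⟨e, Subgroup.zpowers_le.2 huS e.2⟩
  let v : (S : Subgroup G) := ⟨s, hs⟩
  let f : R → Q → (S : Subgroup G) := fun r e => φ (ι r * κ e * (ι r)⁻¹) v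
  let N : ↥(S : Subgroup G) → ↥(S : Subgroup G) := fun x => ∏ r : R, φ (ι r) x
  have hNfix : ∀ (a : R) (x : (S : Subgroup G)), φ (ι a) (N x) = N x := by
    intro a x
    rw [map_prod]
    exact Fintype.prod_equiv (Equiv.mulLeft a) _ _ fun b => by
      rw [← MulAut.mul_apply, ← map_mul]; rfl
  -- each product over a conjugate of `⟨u⟩` is trivial
  have hrow : ∀ r : R, ∏ e : Q, f r e = 1 := by
    intro r
    let c : M := ι r * κ ⟨u, Subgroup.mem_zpowers u⟩ * (ι r)⁻¹
    have hfix : φ c (∏ e : Q, f r e) = ∏ e : Q, f r e := by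
      rw [map_prod]
      refine Fintype.prod_equiv (Equiv.mulLeft ⟨u, Subgroup.mem_zpowers u⟩) _ _ fun b => ?_
      rw [← MulAut.mul_apply, ← map_mul]
      refine congrArg (fun g => φ g v) (Subtype.ext ?_)
      show (r : G) * u * (r : G)⁻¹ * ((r : G) * b * (r : G)⁻¹) = (r : G) * (u * b) * (r : G)⁻¹
      group
    set w := ∏ e : Q, f r e
    have e' : (r : G) * u * (r : G)⁻¹ * (w : G) * ((r : G) * u * (r : G)⁻¹)⁻¹ = w := by
      have := congrArg Subtype.val hfix
      rwa [hφ] at this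
    refine Subtype.ext (h.q_fpf hnc hN (g := (r : G) * u * (r : G)⁻¹) ?_
      (h.two_group_sq S.isPGroup' w.2) (mul_inv_eq_iff_eq_mul.1 e'))
    rw [show (r : G) * u * (r : G)⁻¹ = MulAut.conj (r : G) u from rfl, MulEquiv.orderOf_eq, hu]
  have hcol : ∀ e : Q, e ≠ 1 → ∏ r : R, f r e = N (φ (κ e) v) := by
    intro e he
    have heo : orderOf (e : G) = q := by
      refine (Nat.dvd_prime h.hq).1 ?_ |>.resolve_left fun e1 => he ?_
      · exact (Subgroup.orderOf_dvd_natCard (Subgroup.zpowers u) e.2).trans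
          (by rw [Nat.card_zpowers, hu])
      · exact Subtype.ext (orderOf_eq_one_iff.1 e1)
    have hmem : ∀ r : R, (r : G) * (e : G) * (r : G)⁻¹ * (e : G)⁻¹ ∈ R := fun r => by
      rw [mul_assoc, mul_assoc, ← mul_assoc (e : G)]
      exact mul_mem r.2
        ((Subgroup.mem_normalizer_iff.1 (Subgroup.zpowers_le.2 huR e.2) _).1 (inv_mem r.2))
    let ψ : R → R := fun r => ⟨_, hmem r⟩
    have hψ : Function.Bijective ψ := by
      refine Finite.injective_iff_bijective.1 fun a b hab => Subtype.ext ?_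
      have hab' := mul_right_cancel (congrArg Subtype.val hab)
      have hcomm : (e : G) * ((b : G)⁻¹ * a) = ((b : G)⁻¹ * a) * e := by
        calc (e : G) * ((b : G)⁻¹ * a) = (b : G)⁻¹ * ((b : G) * e * (b : G)⁻¹) * a := by group
          _ = (b : G)⁻¹ * ((a : G) * e * (a : G)⁻¹) * a := by rw [hab']
          _ = _ := by group
      exact (inv_mul_eq_one.1 (h.p_q_fpf hnc hN heo
        (hexp _ (mul_mem (inv_mem b.2) a.2)) hcomm)).symm
    refine Fintype.prod_bijective ψ hψ _ _ fun r => ?_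
    rw [← MulAut.mul_apply, ← map_mul]
    refine congrArg (fun g => φ g v) (Subtype.ext ?_)
    show (r : G) * e * (r : G)⁻¹ = (r : G) * e * (r : G)⁻¹ * (e : G)⁻¹ * e
    group
  have hone : ∏ r : R, f r 1 = v := by
    have : ∀ r : R, f r 1 = v := fun r => Subtype.ext (by
      simp only [f, hφ]
      show (r : G) * 1 * (r : G)⁻¹ * s * ((r : G) * 1 * (r : G)⁻¹)⁻¹ = s
      group)
    rw [Finset.prod_congr rfl fun r _ => this r, Finset.prod_const, Finset.card_univ,
      ← Nat.card_eq_fintype_card]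
    have hRp : IsPGroup p R := fun x => ⟨1, Subtype.ext (by rw [pow_one]; exact hexp x x.2)⟩
    haveI := Fact.mk h.hp
    obtain ⟨k, hk⟩ := IsPGroup.iff_card.1 hRp
    obtain ⟨m, hm⟩ := (h.odd_p.pow (n := k))
    rw [hk, hm, pow_succ, pow_mul, pow_two,
      show v * v = 1 from Subtype.ext (h.two_group_sq S.isPGroup' hs), one_pow, one_mul]
  have htot : ∏ e : Q, ∏ r : R, f r e = 1 := by
    rw [Finset.prod_comm]
    exact Finset.prod_eq_one fun r _ => hrow r
  rw [← Finset.mul_prod_erase Finset.univ (fun e => ∏ r : R, f r e) (Finset.mem_univ 1), hone,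
    mul_eq_one_iff_eq_inv] at htot
  have hv : φ (ι ⟨r₀, hr₀⟩) v = v := by
    rw [htot, map_inv, map_prod]
    congr 1
    refine Finset.prod_congr rfl fun e he => ?_
    rw [hcol e (Finset.ne_of_mem_erase he), hNfix]
  have := congrArg Subtype.val hv
  rw [hφ] at this
  exact (mul_inv_eq_iff_eq_mul.1 this).symm

theorem centralizer_le (S : Sylow 2 G) {g : G}
    (hg : g ∈ Subgroup.centralizer ((S : Subgroup G) : Set G)) : g ∈ (S : Subgroup G) := by
  haveI : Fact (Nat.Prime 2) := ⟨Nat.prime_two⟩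
  obtain ⟨t, hto⟩ := exists_prime_orderOf_dvd_card' (G := (S : Subgroup G)) 2
    ((dvd_pow_self 2 (Nat.pos_iff_ne_zero.1 (Nat.Prime.factorization_pos_of_dvd Nat.prime_two
      Nat.card_pos.ne' (h.two_dvd hnc)))).trans S.card_eq_multiplicity.symm.dvd)
  have ht2 : orderOf (t : G) = 2 := by rw [Subgroup.orderOf_coe, hto]
  have hgt : g * t = t * g := (Subgroup.mem_centralizer_iff.1 hg t t.2).symm
  have hgS := Subgroup.centralizer_le_normalizer _ hg
  refine h.mem_of_sq hnc hN hgS ?_
  by_contra hne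
  have hd := h.dvd_two_mul (Or.inl ht2) hgt
  have hp2 : (g * g) ^ p = 1 := by
    rw [← pow_two, ← pow_mul]; exact orderOf_dvd_iff_pow_eq_one.1 hd
  refine h.not_full hnc (h.order_prime hp2 hne) S (Subgroup.card_dvd_of_le fun s hs => mem_Ct.2 ?_)
  exact (Subgroup.mem_centralizer_iff.1 (mul_mem hg hg) s hs)

/-- The normaliser of a Sylow `2`-subgroup has a small `p`-part, and `q` is large. -/
theorem normalizer_facts (S : Sylow 2 G) :
    2 * p + 1 ≤ q ∧
      ¬ p ^ 2 ∣ Nat.card (Subgroup.normalizer ((S : Subgroup G) : Set G)) := by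
  classical
  haveI : Fact (Nat.Prime 2) := ⟨Nat.prime_two⟩
  haveI := Fact.mk h.hp
  haveI := Fact.mk h.hq
  set M := Subgroup.normalizer ((S : Subgroup G) : Set G) with hM
  have hSM : (S : Subgroup G) ≤ M := Subgroup.le_normalizer
  set S' : Sylow 2 M := S.subtype hSM with hS'
  haveI : (S' : Subgroup M).Normal :=
    inferInstanceAs ((S : Subgroup G).subgroupOf M).Normal
  obtain ⟨K, hK⟩ := Subgroup.exists_right_complement'_of_coprime S'.card_coprime_index
  set H : Subgroup G := K.map M.subtype with hH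
  have hHM : H ≤ M := Subgroup.map_subtype_le _
  have hHc : Nat.card H = (S' : Subgroup M).index := by
    rw [hH, Subgroup.card_map_of_injective M.subtype_injective, hK.symm.index_eq_card]
  have hodd : Odd (Nat.card H) := by
    rw [hHc, Nat.odd_iff, ← Nat.two_dvd_ne_zero]
    exact S'.not_dvd_index
  have hS'c : Nat.card (S' : Subgroup M) = Nat.card (S : Subgroup G) :=
    Nat.card_congr (Subgroup.subgroupOfEquivOfLe hSM).toEquiv
  have hMc : Nat.card M = Nat.card (S : Subgroup G) * Nat.card H := by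
    rw [hHc, ← hS'c, Subgroup.card_mul_index]
  have hfaith : ∀ x ∈ H, x ∈ Subgroup.centralizer ((S : Subgroup G) : Set G) → x = 1 :=
    fun x hx hxc => Invol.eq_one_of_sq_of_odd
      (hodd.of_dvd_nat (Subgroup.orderOf_dvd_natCard H hx))
      (by rw [pow_two]; exact h.two_group_sq S.isPGroup' (h.centralizer_le hnc hN S hxc))
  have hord : ∀ x ∈ H, x ≠ 1 → orderOf x = p ∨ orderOf x = q := by
    intro x hx hx1
    have ho : Odd (orderOf x) := hodd.of_dvd_nat (Subgroup.orderOf_dvd_natCard H hx)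
    rcases h.orders x with e | e | e | e | e
    · exact absurd (orderOf_eq_one_iff.1 e) hx1
    · exact absurd (e ▸ dvd_rfl) ho.not_two_dvd_nat
    · exact Or.inl e
    · exact Or.inr e
    · exact absurd (e ▸ dvd_mul_right 2 p) ho.not_two_dvd_nat
  obtain ⟨t, htS, -⟩ : ∃ t ∈ (S : Subgroup G), orderOf t = 2 := by
    obtain ⟨t, hto⟩ := exists_prime_orderOf_dvd_card' (G := (S : Subgroup G)) 2
      ((dvd_pow_self 2 (Nat.pos_iff_ne_zero.1 (Nat.Prime.factorization_pos_of_dvd Nat.prime_two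
        Nat.card_pos.ne' (h.two_dvd hnc)))).trans S.card_eq_multiplicity.symm.dvd)
    exact ⟨t, t.2, by rw [Subgroup.orderOf_coe, hto]⟩
  have ht1 : ∃ t' ∈ (S : Subgroup G), t' ≠ 1 := by
    by_contra hcon
    push Not at hcon
    have : (S : Subgroup G) = ⊥ := (Subgroup.eq_bot_iff_forall _).2 hcon
    exact S.ne_bot_of_dvd_card (h.two_dvd hnc) this
  obtain ⟨t, htS, ht1⟩ := ht1
  have ht : orderOf t = 2 := order_two_of_sq (h.two_group_sq S.isPGroup' htS) ht1
  obtain ⟨z, hzo, hzt⟩ := h.exists_mem ht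
  have hzM : z ∈ M := h.cent_le hnc hN htS ht1 hzt
  have hpH : p ∣ Nat.card H := by
    have hd : p ∣ Nat.card M := hzo ▸ Subgroup.orderOf_dvd_natCard M hzM
    rw [hMc] at hd
    refine (h.hp.dvd_mul.1 hd).resolve_left fun hd => ?_
    obtain ⟨k, hk⟩ := IsPGroup.iff_card.1 S.isPGroup'
    exact h.p2 ((Nat.prime_dvd_prime_iff_eq h.hp Nat.prime_two).1 (h.hp.dvd_of_dvd_pow (hk ▸ hd)))
  have hnormH : H ≤ Subgroup.normalizer ((S : Subgroup G) : Set G) := hHM
  -- the solvable group `H`
  haveI : Group.IsSolvable H := by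
    refine Char.isSolvable_of_card_pq p q h.hp h.hq _ _ rfl ?_
    have hN0 : Nat.card H ≠ 0 := Nat.card_pos.ne'
    obtain ⟨a, m, hm, he⟩ := Nat.exists_eq_pow_mul_and_not_dvd hN0 p h.hp.ne_one
    have hm0 : m ≠ 0 := fun e => hN0 (by rw [he, e, mul_zero])
    refine ⟨a, m.primeFactorsList.length, ?_⟩
    rw [he, ← Nat.eq_prime_pow_of_unique_prime_dvd hm0 fun {r} hr hrm => ?_]
    have hrH : r ∣ Nat.card H := he ▸ hrm.mul_left _
    rcases h.primes hr (hrH.trans H.card_subgroup_dvd_card) with rfl | rfl | e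
    · exact absurd hrH hodd.not_two_dvd_nat
    · exact absurd hrm hm
    · exact e
  haveI : Nontrivial H := Finite.one_lt_card_iff_nontrivial.1
    (lt_of_lt_of_le h.hp.one_lt (Nat.le_of_dvd Nat.card_pos hpH))
  obtain ⟨r, hr, R₀, hR₀n, hR₀1, hR₀p⟩ := CoprimeCount.exists_normal_pgroup H inferInstance
  haveI := Fact.mk hr
  set R : Subgroup G := R₀.map H.subtype with hRdef
  have hRH : R ≤ H := Subgroup.map_subtype_le _
  have hR1 : R ≠ ⊥ := fun e =>
    hR₀1 ((Subgroup.map_eq_bot_iff_of_injective _ H.subtype_injective).1 e)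
  have hnR : H ≤ Subgroup.normalizer (R : Set G) := by
    intro g hg
    refine Subgroup.mem_normalizer_iff.2 fun n => ?_
    constructor
    · rintro ⟨m, hm, rfl⟩
      exact ⟨⟨g, hg⟩ * m * ⟨g, hg⟩⁻¹, hR₀n.conj_mem m hm _, rfl⟩
    · rintro ⟨m, hm, e⟩
      refine ⟨⟨g, hg⟩⁻¹ * m * ⟨g, hg⟩, hR₀n.conj_mem' m hm _, ?_⟩
      show g⁻¹ * (H.subtype m) * g = n
      rw [e]; group
  have hRp : IsPGroup r R := hR₀p.map _
  have hRexp : ∀ x ∈ R, x ^ r = 1 := by
    intro x hx
    rcases em (x = 1) with rfl | hx1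
    · exact one_pow r
    obtain ⟨k, hk⟩ := IsPGroup.iff_orderOf.1 hRp ⟨x, hx⟩
    rw [Subgroup.orderOf_mk] at hk
    have hk0 : k ≠ 0 := fun e => hx1 (orderOf_eq_one_iff.1 (by rw [hk, e, pow_zero]))
    rcases hord x (hRH hx) hx1 with e | e
    · have : r = p := (Nat.prime_dvd_prime_iff_eq hr h.hp).1 (e ▸ hk ▸ dvd_pow_self r hk0)
      rw [this, ← e]; exact pow_orderOf_eq_one x
    · have : r = q := (Nat.prime_dvd_prime_iff_eq hr h.hq).1 (e ▸ hk ▸ dvd_pow_self r hk0)
      rw [this, ← e]; exact pow_orderOf_eq_one x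
  obtain ⟨x₀, hx₀R, hx₀1⟩ : ∃ x ∈ R, x ≠ 1 := by
    by_contra hcon
    push Not at hcon
    exact hR1 ((Subgroup.eq_bot_iff_forall _).2 hcon)
  have hrpq : r = p ∨ r = q := by
    have ho : orderOf x₀ = r := orderOf_eq_prime (hRexp _ hx₀R) hx₀1
    rcases hord x₀ (hRH hx₀R) hx₀1 with e | e
    · exact Or.inl (ho.symm.trans e)
    · exact Or.inr (ho.symm.trans e)
  rcases hrpq with hrp | hrq
  · -- then `H` is a `p`-group, transitive on the involutions of `S`
    exfalso
    subst hrp
    have hnq : ∀ x ∈ H, orderOf x ≠ q := fun x hx e => hx₀1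
      (hfaith x₀ (hRH hx₀R) (h.frobenius hnc hN S (hRH.trans hnormH) hRexp e (hnormH hx)
        (hnR hx) hx₀R))
    have hHp : IsPGroup r H := fun x => ⟨1, Subtype.ext (by
      rw [pow_one]
      rcases em ((x : G) = 1) with e | e
      · rw [Subgroup.coe_pow, e, one_pow]; rfl
      · rw [Subgroup.coe_pow, ← (hord x x.2 e).resolve_right (hnq x x.2), pow_orderOf_eq_one]
        rfl)⟩
    letI : MulAction H {v : (S : Subgroup G) // v ≠ 1} :=
      { smul := fun g v => ⟨⟨(g : G) * v.1 * (g : G)⁻¹,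
            (Subgroup.mem_normalizer_iff.1 (hnormH g.2) _).1 v.1.2⟩, fun e => v.2 (Subtype.ext
          (conj_eq_one_iff.1 (congrArg Subtype.val e)))⟩
        one_smul := fun v => Subtype.ext (Subtype.ext (by
          show ((1 : H) : G) * _ * ((1 : H) : G)⁻¹ = _
          simp))
        mul_smul := fun a b v => Subtype.ext (Subtype.ext (by
          show ((a * b : H) : G) * _ * ((a * b : H) : G)⁻¹ =
            (a : G) * ((b : G) * _ * (b : G)⁻¹) * (a : G)⁻¹
          simp [mul_assoc])) }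
    haveI : MulAction.IsPretransitive H {v : (S : Subgroup G) // v ≠ 1} := by
      refine ⟨fun v w => ?_⟩
      obtain ⟨g, hgM, hg⟩ := h.transitive hnc hN v.1.2 (fun e => v.2 (Subtype.ext e)) w.1.2
        (fun e => w.2 (Subtype.ext e))
      obtain ⟨⟨⟨a, haS⟩, ⟨b, hbK⟩⟩, hab : a * b = (⟨g, hgM⟩ : M)⟩ :=
        hK.2 ⟨g, hgM⟩
      refine ⟨⟨b, ⟨b, hbK, rfl⟩⟩, Subtype.ext (Subtype.ext ?_)⟩
      show (b : G) * v.1 * (b : G)⁻¹ = w.1
      have hgab : (a : G) * b = g := congrArg Subtype.val hab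
      have hbv : (b : G) * v.1 * (b : G)⁻¹ ∈ (S : Subgroup G) :=
        (Subgroup.mem_normalizer_iff.1 b.2 _).1 v.1.2
      rw [← hg, ← hgab]
      rw [show (a : G) * b * v.1 * ((a : G) * b)⁻¹ = a * ((b : G) * v.1 * (b : G)⁻¹) * (a : G)⁻¹
        by group, show (a : G) * ((b : G) * v.1 * (b : G)⁻¹) = ((b : G) * v.1 * (b : G)⁻¹) * (a : G) from
          h.two_group_comm S.isPGroup' haS hbv, mul_inv_cancel_right]
    set v₀ : {v : (S : Subgroup G) // v ≠ 1} := ⟨⟨t, htS⟩, fun e => ht1 (congrArg Subtype.val e)⟩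
    have hidx : (MulAction.stabilizer H v₀).index = Nat.card (S : Subgroup G) - 1 := by
      rw [MulAction.index_stabilizer_of_transitive]
      have := Fintype.ofFinite (S : Subgroup G)
      rw [Nat.card_eq_fintype_card, Nat.card_eq_fintype_card, Fintype.card_subtype_compl,
        Fintype.card_subtype_eq]
    obtain ⟨b, hb⟩ := hHp.index (MulAction.stabilizer H v₀)
    obtain ⟨n, hn⟩ := IsPGroup.iff_card.1 S.isPGroup'
    have hb1 : b ≤ 1 := exp_le_one h.hp h.p2 (n := n) (by
      have := Nat.card_pos (α := (S : Subgroup G))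
      rw [← hb, hidx, ← hn]; omega)
    haveI hn' : (MulAction.stabilizer H v₀).Normal := by
      rcases Nat.le_one_iff_eq_zero_or_eq_one.1 hb1 with e | e
      · rw [e, pow_zero, Subgroup.index_eq_one] at hb
        rw [hb]; infer_instance
      · rw [e, pow_one] at hb
        refine Subgroup.normal_of_index_eq_minFac_card ?_
        obtain ⟨k, hk⟩ := IsPGroup.iff_card.1 hHp
        have hk0 : k ≠ 0 := fun e' => by
          rw [e', pow_zero] at hk
          rw [hk] at hpH
          exact h.hp.ne_one (Nat.dvd_one.1 hpH)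
        rw [hb, hk, Nat.pow_minFac hk0, h.hp.minFac_eq]
    have hall : ∀ g ∈ MulAction.stabilizer H v₀, ∀ v : {v : (S : Subgroup G) // v ≠ 1}, g • v = v := by
      intro g hg v
      obtain ⟨k, rfl⟩ := MulAction.exists_smul_eq H v₀ v
      have := hn'.conj_mem' g hg k
      rw [MulAction.mem_stabilizer_iff, mul_smul, mul_smul, inv_smul_eq_iff] at this
      exact this
    have hbot : MulAction.stabilizer H v₀ = ⊥ := (Subgroup.eq_bot_iff_forall _).2 fun g hg => by
      refine Subtype.ext (hfaith g g.2 (Subgroup.mem_centralizer_iff.2 fun s hs => ?_))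
      rcases em (s = 1) with rfl | hs1
      · simp
      · have e := congrArg (fun x => ((x.1 : (S : Subgroup G)) : G))
          (hall g hg ⟨⟨s, hs⟩, fun e => hs1 (congrArg Subtype.val e)⟩)
        exact (mul_inv_eq_iff_eq_mul.1 e).symm
    rw [hbot, Subgroup.index_bot] at hb
    have hp2H : Nat.card H ≤ r := by
      rw [hb]
      exact (Nat.pow_le_pow_right h.hp.pos hb1).trans_eq (pow_one r)
    -- the stabiliser contains a conjugate of `z`
    have hzS : Nat.card (S : Subgroup G) * r ∣ Nat.card (Ct t) := by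
      refine Nat.Coprime.mul_dvd_of_dvd_of_dvd ?_ (Subgroup.card_dvd_of_le fun a ha =>
        mem_Ct.2 (h.two_group_comm S.isPGroup' ha htS)) (hzo ▸ Subgroup.orderOf_dvd_natCard _ hzt)
      rw [hn]
      exact ((Nat.coprime_primes Nat.prime_two h.hp).2 (Ne.symm h.p2)).pow_left n
    have hle : Ct t ≤ M := h.cent_le hnc hN htS ht1
    have hMle : Nat.card M ≤ Nat.card (Ct t) := by
      rw [hMc]
      exact le_trans (Nat.mul_le_mul_left _ hp2H) (Nat.le_of_dvd Nat.card_pos hzS)
    have hMeq : Ct t = M := Subgroup.eq_of_le_of_card_ge hle hMle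
    have hSt : ∀ s ∈ (S : Subgroup G), s = 1 ∨ s = t := by
      intro s hs
      rcases em (s = 1) with e | hs1
      · exact Or.inl e
      obtain ⟨g, hgM, hg⟩ := h.transitive hnc hN htS ht1 hs hs1
      rw [mem_Ct.1 (hMeq.ge hgM), mul_inv_cancel_right] at hg
      exact Or.inr hg.symm
    refine h.not_full hnc hzo S (Subgroup.card_dvd_of_le fun s hs => mem_Ct.2 ?_)
    rcases hSt s hs with rfl | rfl
    · simp
    · exact (mem_Ct.1 hzt).symm
  · -- then `R` has order `q` and the `p`-subgroups act on it without fixed points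
    subst hrq
    have hcopS : (Nat.card (S : Subgroup G)).Coprime r := by
      obtain ⟨n, hn⟩ := IsPGroup.iff_card.1 S.isPGroup'
      rw [hn]
      exact ((Nat.coprime_primes Nat.prime_two h.hq).2 (Ne.symm h.q2)).pow_left n
    have hRcard : Nat.card R = r := by
      refine (card_eq_or_le (Y := ⊥) h.hq hR1 hRexp (hRH.trans hnormH) hcopS ?_).resolve_right
        fun e => ht1 (Subgroup.mem_bot.1 (e htS))
      intro a ha ha1 x ⟨hx, hxa⟩
      exact Subgroup.mem_bot.2 (h.q_fpf hnc hN (orderOf_eq_prime (hRexp a ha) ha1)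
        (h.two_group_sq S.isPGroup' hx) (Subgroup.mem_centralizer_singleton_iff.1 hxa).symm)
    have hfix : ∀ a ∈ H, orderOf a = p → R ⊓ Subgroup.centralizer {a} = ⊥ := by
      intro a _ hao
      refine (Subgroup.eq_bot_iff_forall _).2 fun x ⟨hx, hxa⟩ => ?_
      by_contra hx1
      refine absurd (h.p_q_fpf hnc hN (orderOf_eq_prime (hRexp x hx) hx1)
        (hao ▸ pow_orderOf_eq_one a) (Subgroup.mem_centralizer_singleton_iff.1 hxa)) fun e => ?_
      rw [e, orderOf_one] at hao
      exact h.hp.ne_one hao.symm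
    obtain ⟨P⟩ : Nonempty (Sylow p H) := inferInstance
    set P' : Subgroup G := (P : Subgroup H).map H.subtype with hP'
    have hP'H : P' ≤ H := Subgroup.map_subtype_le _
    have hP'1 : P' ≠ ⊥ := fun e => P.ne_bot_of_dvd_card hpH
      ((Subgroup.map_eq_bot_iff_of_injective _ H.subtype_injective).1 e)
    have hP'exp : ∀ a ∈ P', a ^ p = 1 := by
      intro a ha
      rcases em (a = 1) with rfl | ha1
      · exact one_pow p
      obtain ⟨k, hk⟩ := IsPGroup.iff_orderOf.1 (P.isPGroup'.map H.subtype) ⟨a, ha⟩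
      rw [Subgroup.orderOf_mk] at hk
      rcases hord a (hP'H ha) ha1 with e | e
      · rw [← e]; exact pow_orderOf_eq_one a
      · exfalso
        rw [hk] at e
        exact h.pq ((Nat.prime_dvd_prime_iff_eq h.hq h.hp).1
          (h.hq.dvd_of_dvd_pow (e.symm.dvd))).symm
    have hP'fix : ∀ a ∈ P', a ≠ 1 → R ⊓ Subgroup.centralizer {a} = ⊥ := fun a ha ha1 =>
      hfix a (hP'H ha) (h.order_prime (hP'exp a ha) ha1)
    have hP'card : Nat.card P' = p := by
      refine (card_eq_or_le (Y := ⊥) h.hp hP'1 hP'exp (hP'H.trans hnR) ?_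
        fun a ha ha1 => (hP'fix a ha ha1).le).resolve_right fun e => hR1 (eq_bot_iff.2 e)
      rw [hRcard]
      exact (Nat.coprime_primes h.hq h.hp).2 (Ne.symm h.pq)
    constructor
    · have hd := FrobeniusStruct.card_dvd_sub_one (hP'H.trans hnR) hP'fix
      rw [hP'card, hRcard] at hd
      obtain ⟨k, hk⟩ := hd
      have hr3 := h.hq.two_le
      obtain ⟨kp, hkp⟩ := h.odd_p
      obtain ⟨kq, hkq⟩ := h.hq.odd_of_ne_two h.q2
      rcases k with _ | _ | k
      · simp at hk; omega
      · omega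
      · nlinarith [Nat.sub_add_cancel (show 1 ≤ r by omega)]
    · intro hd
      rw [hMc] at hd
      have hd' : p ^ 2 ∣ Nat.card H := by
        obtain ⟨n, hn⟩ := IsPGroup.iff_card.1 S.isPGroup'
        rw [hn] at hd
        exact (((Nat.coprime_primes h.hp Nat.prime_two).2 h.p2).pow 2 n).dvd_of_dvd_mul_left hd
      rw [hP', Subgroup.card_map_of_injective H.subtype_injective, P.card_eq_multiplicity] at hP'card
      have h2 := (h.hp.pow_dvd_iff_le_factorization Nat.card_pos.ne').1 hd'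
      have h3 : p ^ 2 ≤ p ^ (Nat.card H).factorization p := Nat.pow_le_pow_right h.hp.pos h2
      have := h.hp.two_le
      nlinarith

end Setup

end Cfsg.Agent.FiveOrbits
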