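import Cfsg.Agent.Lib.CNSimple.Defs
import Cfsg.Agent.Lib.CNSimple.TI
import Cfsg.Agent.Lib.Char.Burnside
import Mathlib.Algebra.Group.Action.End
import Mathlib.GroupTheory.GroupAction.Basic

/-!
# Simple groups with at most five orbits of the automorphism group: the non-CIT setting
-/

set_option autoImplicit false
set_option linter.style.haveILetI false
set_option linter.unusedSectionVars false

namespace Cfsg.Agent.FiveOrbits

open Cfsg.Agent.Invol Cfsg.Agent.CNSimple

universe u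

variable {G : Type u} [Group G] [Finite G]

/-- The element orders are `1, 2, p, q, 2 p`, one orbit of automorphisms for each. -/
structure Setup (G : Type u) [Group G] (p q : ℕ) : Prop where
  hp : p.Prime
  hq : q.Prime
  p2 : p ≠ 2
  q2 : q ≠ 2
  pq : p ≠ q
  ex : ∃ g : G, orderOf g = 2 * p
  exq : q ∣ Nat.card G
  orders : ∀ g : G, orderOf g = 1 ∨ orderOf g = 2 ∨ orderOf g = p ∨ orderOf g = q ∨ orderOf g = 2 * p
  aut : ∀ x y : G, orderOf x = orderOf y → ∃ α : MulAut G, α x = y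

theorem mem_Ct_map (α : MulAut G) {x g : G} : α g ∈ Ct (α x) ↔ g ∈ Ct x := by
  rw [mem_Ct, mem_Ct, ← map_mul, ← map_mul]
  exact α.injective.eq_iff

theorem card_Ct_map (α : MulAut G) (x : G) : Nat.card (Ct (α x)) = Nat.card (Ct x) := by
  refine Nat.card_congr ((α.toEquiv.subtypeEquiv fun g => ?_)).symm
  exact (mem_Ct_map α).symm

namespace Setup

variable {p q : ℕ} (h : Setup G p q)
include h

theorem sq_of_two_pow {x : G} {k : ℕ} (hx : orderOf x = 2 ^ k) : x * x = 1 := by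
  rw [← pow_two]
  apply orderOf_dvd_iff_pow_eq_one.1
  rw [hx]
  have hpp : ∀ r : ℕ, r.Prime → r ≠ 2 → ¬ r ∣ 2 ^ k := fun r hr hr2 hd =>
    hr2 ((Nat.prime_dvd_prime_iff_eq hr Nat.prime_two).1 (hr.dvd_of_dvd_pow hd))
  rcases h.orders x with e | e | e | e | e <;> rw [hx] at e
  · rw [e]; exact one_dvd _
  · rw [e]
  · exact absurd (e ▸ dvd_rfl) (hpp p h.hp h.p2)
  · exact absurd (e ▸ dvd_rfl) (hpp q h.hq h.q2)
  · exact absurd (e ▸ dvd_mul_left p 2) (hpp p h.hp h.p2)

theorem two_group_sq {P : Subgroup G} (hP : IsPGroup 2 P) {x : G} (hx : x ∈ P) : x * x = 1 := by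
  haveI : Fact (Nat.Prime 2) := ⟨Nat.prime_two⟩
  obtain ⟨k, hk⟩ := IsPGroup.iff_orderOf.1 hP ⟨x, hx⟩
  rw [Subgroup.orderOf_mk] at hk
  exact h.sq_of_two_pow hk

theorem two_group_comm {P : Subgroup G} (hP : IsPGroup 2 P) {x y : G} (hx : x ∈ P) (hy : y ∈ P) :
    x * y = y * x := by
  have e : ∀ a ∈ P, a⁻¹ = a := fun a ha => inv_eq_of_mul_eq_one_right (h.two_group_sq hP ha)
  rw [← e (x * y) (mul_mem hx hy), mul_inv_rev, e x hx, e y hy]

theorem order_prime {x : G} (hx : x ^ p = 1) (hx1 : x ≠ 1) : orderOf x = p := by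
  haveI := Fact.mk h.hp
  exact orderOf_eq_prime hx hx1

theorem exists_p : ∃ z : G, orderOf z = p := by
  obtain ⟨g, hg⟩ := h.ex
  refine ⟨g ^ 2, ?_⟩
  rw [orderOf_pow' _ two_ne_zero, hg, Nat.gcd_eq_right (dvd_mul_right 2 p),
    Nat.mul_div_cancel_left _ two_pos]

theorem dvd_two_mul {g x : G} (hx : orderOf x = 2 ∨ orderOf x = p) (hgx : g * x = x * g) :
    orderOf g ∣ 2 * p := by
  rcases h.orders g with e | e | e | e | e <;> rw [e]
  · exact one_dvd _
  · exact dvd_mul_right 2 p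
  · exact dvd_mul_left p 2
  · exfalso
    have hcop : (orderOf g).Coprime (orderOf x) := by
      rw [e]
      rcases hx with hx | hx <;> rw [hx]
      · exact (Nat.coprime_primes h.hq Nat.prime_two).2 h.q2
      · exact (Nat.coprime_primes h.hq h.hp).2 (Ne.symm h.pq)
    have e' := (show Commute g x from hgx).orderOf_mul_eq_mul_orderOf_of_coprime hcop
    rw [e] at e'
    have h2 : 2 ≤ orderOf x := by
      rcases hx with hx | hx <;> rw [hx]
      exact h.hp.two_le
    have hq := h.hq.two_le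
    rcases h.orders (g * x) with f | f | f | f | f <;> rw [f] at e'
    · nlinarith
    · nlinarith
    · exact h.pq ((Nat.prime_dvd_prime_iff_eq h.hq h.hp).1 (e'.symm ▸ dvd_mul_right q (orderOf x))).symm
    · nlinarith
    · rcases h.hq.dvd_mul.1 (e'.symm ▸ dvd_mul_right q (orderOf x)) with f' | f'
      · exact h.q2 ((Nat.prime_dvd_prime_iff_eq h.hq Nat.prime_two).1 f')
      · exact h.pq ((Nat.prime_dvd_prime_iff_eq h.hq h.hp).1 f').symm

theorem primes {r : ℕ} (hr : r.Prime) (hd : r ∣ Nat.card G) : r = 2 ∨ r = p ∨ r = q := by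
  haveI := Fact.mk hr
  obtain ⟨g, hg⟩ := exists_prime_orderOf_dvd_card' r hd
  rcases h.orders g with e | e | e | e | e <;> rw [hg] at e
  · exact absurd e hr.ne_one
  · exact Or.inl e
  · exact Or.inr (Or.inl e)
  · exact Or.inr (Or.inr e)
  · have hnp : ¬ (2 * p).Prime := Nat.not_prime_mul (by norm_num) h.hp.ne_one
    exact absurd (e ▸ hr) hnp

/-- The centraliser of an element of order `2` or `p` is a `{2, p}`-group. -/
theorem primes_Ct {x : G} (hx : orderOf x = 2 ∨ orderOf x = p) {r : ℕ} (hr : r.Prime)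
    (hd : r ∣ Nat.card (Ct x)) : r = 2 ∨ r = p := by
  haveI := Fact.mk hr
  obtain ⟨⟨g, hg⟩, hgo⟩ := exists_prime_orderOf_dvd_card' r hd
  rw [Subgroup.orderOf_mk] at hgo
  have hd' := h.dvd_two_mul hx (mem_Ct.1 hg)
  rw [hgo] at hd'
  rcases hr.dvd_mul.1 hd' with e | e
  · exact Or.inl ((Nat.prime_dvd_prime_iff_eq hr Nat.prime_two).1 e)
  · exact Or.inr ((Nat.prime_dvd_prime_iff_eq hr h.hp).1 e)

theorem card_Ct_pq {x : G} (hx : orderOf x = 2 ∨ orderOf x = p) :
    ∃ a b, Nat.card (Ct x) = 2 ^ a * p ^ b := by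
  set N := Nat.card (Ct x) with hN
  have hN0 : N ≠ 0 := Nat.card_pos.ne'
  obtain ⟨a, m, hm, he⟩ := Nat.exists_eq_pow_mul_and_not_dvd hN0 2 (by norm_num)
  have hm0 : m ≠ 0 := fun e => hN0 (by rw [he, e, mul_zero])
  refine ⟨a, m.primeFactorsList.length, ?_⟩
  rw [he, ← Nat.eq_prime_pow_of_unique_prime_dvd hm0 fun {r} hr hrm => ?_]
  rcases h.primes_Ct hx hr (hN ▸ he ▸ hrm.mul_left _) with rfl | e
  · exact absurd hrm hm
  · exact e

theorem solvable_Ct {x : G} (hx : orderOf x = 2 ∨ orderOf x = p) : Group.IsSolvable (Ct x) :=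
  Char.isSolvable_of_card_pq 2 p Nat.prime_two h.hp _ _ rfl (h.card_Ct_pq hx)

variable [IsSimpleGroup G] (hnc : ∃ a b : G, a * b ≠ b * a)
include hnc

/-- The centraliser of an element of order `2` or `p` misses a `2`- or a `p`-Sylow subgroup. -/
theorem not_both {x : G} (hx : orderOf x = 2 ∨ orderOf x = p) (S : Sylow 2 G) [Fact p.Prime]
    (P : Sylow p G) (hS : Nat.card S ∣ Nat.card (Ct x)) (hP : Nat.card P ∣ Nat.card (Ct x)) :
    False := by
  haveI : Fact (Nat.Prime 2) := ⟨Nat.prime_two⟩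
  have hmul : Nat.card (Ct x) * (Ct x).index = Nat.card G := Subgroup.card_mul_index _
  obtain ⟨c, hc⟩ : ∃ c, (Ct x).index = q ^ c := by
    refine ⟨_, Nat.eq_prime_pow_of_unique_prime_dvd Subgroup.index_ne_zero_of_finite
      fun {r} hr hrd => ?_⟩
    have key : ∀ (s : ℕ) [Fact s.Prime] (T : Sylow s G), Nat.card T ∣ Nat.card (Ct x) →
        ¬ s ∣ (Ct x).index := by
      intro s _ T hT hd
      have h1 : Nat.card T * s ∣ Nat.card G := hmul ▸ mul_dvd_mul hT hd
      rw [← (T : Subgroup G).card_mul_index] at h1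
      exact T.not_dvd_index ((Nat.mul_dvd_mul_iff_left Nat.card_pos).1 h1)
    rcases h.primes hr (hrd.trans (Dvd.intro_left _ hmul)) with rfl | rfl | e
    · exact absurd hrd (key 2 S hS)
    · exact absurd hrd (key _ P hP)
    · exact e
  have hx1 : x ≠ 1 := fun e => by
    rw [e, orderOf_one] at hx
    rcases hx with e' | e'
    · norm_num at e'
    · exact h.hp.ne_one e'.symm
  have hpr := Char.prime_card_of_class_prime_pow h.hq x hx1 hc
  haveI := Fact.mk hpr
  haveI : IsCyclic G := isCyclic_of_prime_card (p := Nat.card G) rfl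
  obtain ⟨a, b, hab⟩ := hnc
  exact hab ((IsCyclic.isMulCommutative (α := G)).is_comm.comm a b)

/-- Every element of order `p` centralises a Sylow `p`-subgroup. -/
theorem card_dvd_Ct {z : G} (hz : orderOf z = p) [Fact p.Prime] (P : Sylow p G) :
    Nat.card P ∣ Nat.card (Ct z) := by
  have hp0 : p ∣ Nat.card G := by
    obtain ⟨y, hy⟩ := h.exists_p
    exact hy ▸ orderOf_dvd_natCard y
  haveI : Nontrivial (P : Subgroup G) :=
    (Subgroup.nontrivial_iff_ne_bot _).2 (P.ne_bot_of_dvd_card hp0)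
  haveI := P.isPGroup'.center_nontrivial
  obtain ⟨c, hc⟩ := exists_prime_orderOf_dvd_card' (G := Subgroup.center (P : Subgroup G)) p (by
    obtain ⟨n, hn0, hn⟩ := (IsPGroup.nontrivial_iff_card (P.isPGroup'.to_subgroup _)).1
      (inferInstance : Nontrivial (Subgroup.center (P : Subgroup G)))
    rw [hn]; exact dvd_pow_self p hn0.ne')
  set y : G := ((c : (P : Subgroup G)) : G)
  have hyo : orderOf y = p := by
    simp only [y, Subgroup.orderOf_coe]; exact hc
  obtain ⟨α, hα⟩ := h.aut y z (hyo.trans hz.symm)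
  rw [← hα, card_Ct_map]
  exact Subgroup.card_dvd_of_le fun a ha => mem_Ct.2
    (congrArg Subtype.val (Subgroup.mem_center_iff.1 c.2 ⟨a, ha⟩))

/-- The centraliser of an element of order `p` contains no Sylow `2`-subgroup. -/
theorem not_full {z : G} (hz : orderOf z = p) (S : Sylow 2 G) :
    ¬ Nat.card S ∣ Nat.card (Ct z) := fun hS => by
  haveI := Fact.mk h.hp
  obtain ⟨P⟩ : Nonempty (Sylow p G) := inferInstance
  exact h.not_both hnc (Or.inr hz) S P hS (h.card_dvd_Ct hnc hz P)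

theorem two_dvd : 2 ∣ Nat.card G := by
  obtain ⟨g, hg⟩ := h.ex
  exact (Dvd.intro p rfl : 2 ∣ 2 * p).trans (hg ▸ orderOf_dvd_natCard g)

/-- An involution centralises a Sylow `2`-subgroup. -/
theorem exists_sylow {t : G} (ht : orderOf t = 2) :
    ∃ S : Sylow 2 G, t ∈ (S : Subgroup G) ∧ (S : Subgroup G) ≤ Ct t := by
  haveI : Fact (Nat.Prime 2) := ⟨Nat.prime_two⟩
  obtain ⟨S, hS⟩ := (IsPGroup.of_card (p := 2) (n := 1) (G := Subgroup.zpowers t)
    (by rw [Nat.card_zpowers, ht, pow_one])).exists_le_sylow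
  have htS : t ∈ (S : Subgroup G) := hS (Subgroup.mem_zpowers t)
  exact ⟨S, htS, fun a ha => mem_Ct.2 (h.two_group_comm S.isPGroup' ha htS)⟩

end Setup

end Cfsg.Agent.FiveOrbits
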