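import Cfsg.Agent.Lib.FiveOrbits.Theta
import Cfsg.Agent.Lib.DGroup.MainPSL
import Cfsg.Agent.Lib.Recog.SL2Orders

/-!
# Five orbits: the generalised dihedral case is `PSL₂(5)`
-/

set_option autoImplicit false
set_option linter.style.haveILetI false
set_option linter.unusedSectionVars false
set_option linter.unusedSimpArgs false

namespace Cfsg.Agent.FiveOrbits

open Cfsg.Agent.Invol Cfsg.Agent.CNSimple
open scoped Pointwise

universe u

variable {G : Type u} [Group G] [Finite G]

namespace Setup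

variable {p q : ℕ} (h : Setup G p q) [IsSimpleGroup G] (hnc : ∃ a b : G, a * b ≠ b * a)
include h hnc

theorem not_solvable : ¬ Group.IsSolvable G := fun hs => by
  obtain ⟨a, b, hab⟩ := hnc
  exact hab (IsSimpleGroup.comm_iff_isSolvable.2 hs a b)

variable (hc : ∀ t : G, orderOf t = 2 → PClosed p t)
include hc

/-- With a normal odd subgroup in the centraliser of an involution the order is `60`. -/
theorem card_sixty : Nat.card G = 60 := by
  classical
  haveI : Fact (Nat.Prime 2) := ⟨Nat.prime_two⟩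
  obtain ⟨t, ht⟩ := exists_prime_orderOf_dvd_card' (G := G) 2 (h.two_dvd hnc)
  obtain ⟨S, htS, hS⟩ := h.exists_sylow hnc ht
  obtain ⟨hS4, z, hz, hz1, hEz⟩ := h.klein hc hnc ht S htS hS
  have hts : t * t = 1 := Invol.mul_self ht
  -- an element of `S` outside the kernel
  obtain ⟨a, haS, haz⟩ : ∃ a ∈ (S : Subgroup G), a ∉ Ct z := by
    by_contra hcon
    push Not at hcon
    have hle : Nat.card (S : Subgroup G) ≤ 2 := by
      refine le_trans (Nat.card_le_card_of_injective
        (fun s : (S : Subgroup G) => if (s : G) = 1 then true else false) ?_)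
        (Nat.card_eq_fintype_card.trans Fintype.card_bool).le
      intro s s' e
      apply Subtype.ext
      rcases hEz s s.2 (hcon s s.2) with e1 | e1 <;>
        rcases hEz s' s'.2 (hcon s' s'.2) with e2 | e2 <;>
        simp [e1, e2, Invol.ne_one ht] at e ⊢
    omega
  have ha2 : a * a = 1 := h.two_group_sq S.isPGroup' haS
  have hainv : a⁻¹ = a := inv_eq_of_mul_eq_one_right ha2
  have hinv : ∀ x ∈ T (hc t ht), a * x * a = x⁻¹ := by
    intro x hx
    rcases em (x = 1) with rfl | hx1
    · rw [mul_one, ha2, inv_one]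
    · have hax : a ∉ Ct x := fun hax =>
        haz ((h.inf_eq hc hnc ht S htS hS hx hx1 hz hz1).le ⟨haS, hax⟩).2
      have e := h.invert hc hnc ht S htS hS hx haS hax
      rwa [hainv] at e
  have hXz : ∀ x ∈ T (hc t ht), x ∈ Ct z := fun x hx => mem_Ct.2 (h.T_comm hc ht hx hz)
  set A : Subgroup G := Ct t ⊓ Ct z with hA
  have memA : ∀ {g : G}, g ∈ A → ∃ x ∈ T (hc t ht), g = x ∨ g = x * t := by
    rintro g ⟨hgt, hgz⟩
    obtain ⟨x, hx, s, hs, rfl⟩ := h.decompose hc ht S hS hgt
    refine ⟨x, hx, ?_⟩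
    have hsz : s ∈ Ct z := by
      have := mul_mem (inv_mem (hXz x hx)) hgz
      rwa [inv_mul_cancel_left] at this
    rcases hEz s hs hsz with rfl | rfl
    · exact Or.inl (mul_one x)
    · exact Or.inr rfl
  have htz : t ∈ Ct z := mem_Ct.2 (mem_Ct.1 hz.1).symm
  have htA : t ∈ A := ⟨mem_Ct.2 rfl, htz⟩
  have hTt : ∀ x ∈ T (hc t ht), x * t = t * x := fun x hx => mem_Ct.1 hx.1
  -- every element of `S` outside `C(z)` becomes central after multiplication by `a`
  have hhalf : ∀ b ∈ (S : Subgroup G), b ∉ Ct z → b * a ∈ Ct z := by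
    intro b hb hbz
    have e1 := h.invert hc hnc ht S htS hS hz haS haz
    have e2 := h.invert hc hnc ht S htS hS hz hb hbz
    refine mem_Ct.2 (mul_inv_eq_iff_eq_mul.1 ?_)
    rw [show b * a * z * (b * a)⁻¹ = b * (a * z * a⁻¹) * b⁻¹ by group, e1,
      show b * z⁻¹ * b⁻¹ = (b * z * b⁻¹)⁻¹ by group, e2, inv_inv]
  have hCt : ∀ g ∈ Ct t, g ∈ A ∨ g * a ∈ A := by
    intro g hg
    obtain ⟨x, hx, s, hs, rfl⟩ := h.decompose hc ht S hS hg
    by_cases hsz : s ∈ Ct z
    · exact Or.inl ⟨hg, mul_mem (hXz x hx) hsz⟩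
    · refine Or.inr ⟨mul_mem hg (hS haS), ?_⟩
      rw [mul_assoc]
      exact mul_mem (hXz x hx) (hhalf s hs hsz)
  have huniq : ∀ e, DGroup.IsInner A e → e = t := by
    rintro e ⟨heA, he2, he1⟩
    obtain ⟨x, hx, rfl | rfl⟩ := memA heA
    · exact absurd (Invol.eq_one_of_sq_of_odd ((h.odd_T hc ht).of_dvd_nat
        (Subgroup.orderOf_dvd_natCard _ hx)) (by rw [pow_two]; exact he2)) he1
    · have : x * x = 1 := by
        rw [show x * t * (x * t) = x * (t * x) * t by group, ← hTt x hx,
          show x * (x * t) * t = x * x * (t * t) by group, hts, mul_one] at he2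
        exact he2
      rw [Invol.eq_one_of_sq_of_odd ((h.odd_T hc ht).of_dvd_nat
        (Subgroup.orderOf_dvd_natCard _ hx)) (by rw [pow_two]; exact this), one_mul]
  have hyp : DGroup.Hyp2 A a :=
    { comm := by
        intro g hg g' hg'
        obtain ⟨x, hx, e⟩ := memA hg
        obtain ⟨x', hx', e'⟩ := memA hg'
        have c1 : Commute x x' := h.T_comm hc ht hx hx'
        have c2 : Commute x t := hTt x hx
        have c3 : Commute x' t := hTt x' hx'
        rcases e with rfl | rfl <;> rcases e' with rfl | rfl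
        · exact c1.eq
        · exact (c1.mul_right c2).eq
        · exact (c1.mul_left c3.symm).eq
        · exact ((c1.mul_right c2).mul_left (c3.symm.mul_right (Commute.refl t))).eq
      two := ht ▸ Subgroup.orderOf_dvd_natCard A htA
      ss := ha2
      sA := fun ha => haz ha.2
      inv := by
        intro g hg
        have eat : a * t * a = t := by rw [h.two_group_comm S.isPGroup' haS htS, mul_assoc, ha2, mul_one]
        obtain ⟨x, hx, rfl | rfl⟩ := memA hg
        · exact hinv _ hx
        · rw [show a * (x * t) * a = (a * x * a⁻¹) * (a * t * a) by group, hainv, hinv x hx, eat,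
            mul_inv_rev, inv_eq_of_mul_eq_one_right hts]
          exact (show Commute x t from hTt x hx).inv_left.eq
      cent := by
        intro e he h2 h1 g hg
        rw [huniq e ⟨he, h2, h1⟩] at hg
        exact hCt g (mem_Ct.2 hg) }
  have hNS : ∃ g ∈ Subgroup.normalizer ((S : Subgroup G) : Set G),
      ∃ s ∈ (S : Subgroup G), g * s * g⁻¹ ≠ s := by
    by_contra hcon
    push Not at hcon
    have hP : Subgroup.normalizer ((S : Subgroup G) : Set G) ≤
        Subgroup.centralizer ((S : Subgroup G) : Set G) := fun g hg =>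
      Subgroup.mem_centralizer_iff.2 fun s hs => (mul_inv_eq_iff_eq_mul.1 (hcon g hg s hs)).symm
    have hcompl := MonoidHom.ker_transferSylow_isComplement' S hP
    have hcard := hcompl.card_mul
    rcases IsSimpleGroup.eq_bot_or_eq_top_of_normal (MonoidHom.transferSylow S hP).ker inferInstance
      with e | e
    · rw [e, Subgroup.card_bot, one_mul, hS4] at hcard
      haveI : Fact (Nat.Prime 2) := ⟨Nat.prime_two⟩
      haveI : Group.IsNilpotent G := (IsPGroup.of_card (p := 2) (n := 2) hcard.symm).isNilpotent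
      exact h.not_solvable hnc inferInstance
    · rw [e, Subgroup.card_top, hS4] at hcard
      have := Nat.card_pos (α := G)
      omega
  obtain ⟨g₀, hg₀, s₀, hs₀, hne₀⟩ := hNS
  -- an element of odd order moving `S`
  obtain ⟨g, hg, hgo, hgne⟩ : ∃ g ∈ Subgroup.normalizer ((S : Subgroup G) : Set G),
      Odd (orderOf g) ∧ ∃ s ∈ (S : Subgroup G), g * s * g⁻¹ ≠ s := by
    have hinvol : ∀ u ∈ Subgroup.normalizer ((S : Subgroup G) : Set G), u * u = 1 →
        u ∈ (S : Subgroup G) := by
      intro u hu hu2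
      have hU : IsPGroup 2 (Subgroup.zpowers u) := by
        rcases em (u = 1) with rfl | hu1
        · exact IsPGroup.of_card (n := 0) (by rw [Nat.card_zpowers, orderOf_one, pow_zero])
        · exact IsPGroup.of_card (n := 1)
            (by rw [Nat.card_zpowers, Invol.order_two_of_sq hu2 hu1, pow_one])
      exact (le_sup_right.trans (S.3 (S.isPGroup'.to_sup_of_normal_left' hU
        (Subgroup.zpowers_le.2 hu)) le_sup_left).le) (Subgroup.mem_zpowers u)
    have hfix : ∀ u ∈ (S : Subgroup G), u * s₀ * u⁻¹ = s₀ := fun u hu => by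
      rw [h.two_group_comm S.isPGroup' hu hs₀, mul_inv_cancel_right]
    rcases h.orders g₀ with e | e | e | e | e
    · exact absurd (by rw [orderOf_eq_one_iff.1 e]; group) hne₀
    · exact absurd (hfix _ (hinvol g₀ hg₀ (Invol.mul_self e))) hne₀
    · exact ⟨g₀, hg₀, e ▸ h.odd_p, s₀, hs₀, hne₀⟩
    · exact ⟨g₀, hg₀, e ▸ h.hq.odd_of_ne_two h.q2, s₀, hs₀, hne₀⟩
    · have h2 : orderOf (g₀ ^ p) = 2 := by
        rw [orderOf_pow' _ h.hp.ne_zero, e, Nat.gcd_eq_right (dvd_mul_left p 2),
          Nat.mul_div_cancel _ h.hp.pos]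
      refine ⟨g₀ ^ (p + 1), pow_mem hg₀ _, ?_, s₀, hs₀, fun e' => hne₀ ?_⟩
      · obtain ⟨k, hk⟩ := h.odd_p
        refine h.odd_p.of_dvd_nat (orderOf_dvd_of_pow_eq_one ?_)
        rw [← pow_mul, show (p + 1) * p = 2 * p * (k + 1) by rw [hk]; ring, ← e, pow_mul,
          pow_orderOf_eq_one, one_pow]
      · have hu : g₀ ^ p ∈ (S : Subgroup G) :=
          hinvol _ (pow_mem hg₀ p) (Invol.mul_self h2)
        have hui : (g₀ ^ p)⁻¹ = g₀ ^ p := inv_eq_of_mul_eq_one_right (Invol.mul_self h2)
        calc g₀ * s₀ * g₀⁻¹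
            = (g₀ ^ p)⁻¹ * (g₀ ^ (p + 1) * s₀ * (g₀ ^ (p + 1))⁻¹) * g₀ ^ p := by
              rw [pow_succ]; group
          _ = g₀ ^ p * s₀ * (g₀ ^ p)⁻¹ := by rw [e', hui]
          _ = s₀ := hfix _ hu
  have hmem : ∀ u ∈ (S : Subgroup G), g * u * g⁻¹ ∈ (S : Subgroup G) := fun u hu =>
    (Subgroup.mem_normalizer_iff.1 hg u).1 hu
  -- the four elements of `S`
  have hfour : ∀ u ∈ (S : Subgroup G), ∀ v ∈ (S : Subgroup G), u ≠ 1 → v ≠ 1 → u ≠ v →
      ∀ w ∈ (S : Subgroup G), w = 1 ∨ w = u ∨ w = v ∨ w = u * v := by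
    intro u hu v hv hu1 hv1 huv w hw
    by_contra hcon
    push Not at hcon
    obtain ⟨w1, w2, w3, w4⟩ := hcon
    have huu := h.two_group_sq S.isPGroup' hu
    have k1 : u * v ≠ 1 := fun e => huv
      (by rw [eq_inv_of_mul_eq_one_right e, inv_eq_of_mul_eq_one_right huu])
    have k2 : u * v ≠ u := fun e => hv1 (mul_eq_left.1 e)
    have k3 : u * v ≠ v := fun e => hu1 (mul_eq_right.1 e)
    let f : Fin 5 → (S : Subgroup G) :=
      ![1, ⟨u, hu⟩, ⟨v, hv⟩, ⟨u * v, mul_mem hu hv⟩, ⟨w, hw⟩]
    have hfi : Function.Injective f := by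
      intro i j e
      have e' : (f i : G) = f j := congrArg Subtype.val e
      clear e
      fin_cases i <;> fin_cases j <;>
        simp only [f, Fin.isValue, Matrix.cons_val_zero, Matrix.cons_val_one, Matrix.cons_val,
          OneMemClass.coe_one] at e' <;>
        first
          | rfl
          | exact absurd e' ‹_›
          | exact absurd e'.symm ‹_›
    have := Nat.card_le_card_of_injective f hfi
    rw [hS4, Nat.card_eq_fintype_card, Fintype.card_fin] at this
    omega
  have hmove : ∀ u ∈ (S : Subgroup G), u ≠ 1 → g * u * g⁻¹ ≠ u := by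
    intro u hu hu1 hfu
    obtain ⟨v, hv, hgv⟩ := hgne
    obtain ⟨k, hk⟩ := hgo
    have hg2 : g * (g * v * g⁻¹) * g⁻¹ = v := by
      have hv1 : v ≠ 1 := fun e => hgv (by rw [e]; group)
      have huv : u ≠ v := fun e => hgv (e ▸ hfu)
      rcases hfour u hu v hv hu1 hv1 huv _ (hmem v hv) with e | e | e | e
      · exact absurd (conj_eq_one_iff.1 e) hv1
      · exfalso
        have : g * v * g⁻¹ = g * u * g⁻¹ := e.trans hfu.symm
        exact huv ((mul_left_cancel (mul_right_cancel this)).symm)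
      · exact absurd e hgv
      · rw [e, show g * (u * v) * g⁻¹ = (g * u * g⁻¹) * (g * v * g⁻¹) by group, hfu, e,
          ← mul_assoc, h.two_group_sq S.isPGroup' hu, one_mul]
    have hcomm : Commute (g * g) v := by
      show g * g * v = v * (g * g)
      calc g * g * v = g * (g * v * g⁻¹) * g⁻¹ * (g * g) := by group
        _ = v * (g * g) := by rw [hg2]
    have hg1 : g = (g * g) ^ (k + 1) := by
      rw [← pow_two, ← pow_mul, show 2 * (k + 1) = orderOf g + 1 by omega, pow_succ,
        pow_orderOf_eq_one, one_mul]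
    apply hgv
    rw [hg1, (hcomm.pow_left (k + 1)).eq, mul_inv_cancel_right]
  have hconjS : ∀ v ∈ (S : Subgroup G), v ≠ 1 → IsConj t v := by
    intro v hv hv1
    have ht1 := Invol.ne_one ht
    set t' := g * t * g⁻¹ with ht'
    have ht'S : t' ∈ (S : Subgroup G) := hmem t htS
    have ht'1 : t' ≠ 1 := fun e => ht1 (conj_eq_one_iff.1 e)
    have htt' : t ≠ t' := fun e => hmove t htS ht1 e.symm
    have c1 : IsConj t t' := isConj_iff.2 ⟨g, rfl⟩
    have c2 : IsConj t (t * t') := by
      rcases hfour t htS t' ht'S ht1 ht'1 htt' _ (hmem t' ht'S) with e | e | e | e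
      · exact absurd (conj_eq_one_iff.1 e) ht'1
      · exfalso
        refine hmove (t * t') (mul_mem htS ht'S) (fun e' => htt' ?_) ?_
        · rw [eq_inv_of_mul_eq_one_right e', inv_eq_of_mul_eq_one_right hts]
        · rw [show g * (t * t') * g⁻¹ = (g * t * g⁻¹) * (g * t' * g⁻¹) by group, e, ← ht']
          exact h.two_group_comm S.isPGroup' ht'S htS
      · exact absurd e (hmove t' ht'S ht'1)
      · rw [← e]; exact c1.trans (isConj_iff.2 ⟨g, rfl⟩)
    rcases hfour t htS t' ht'S ht1 ht'1 htt' v hv with e | e | e | e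
    · exact absurd e hv1
    · rw [e]
    · rwa [e]
    · rwa [e]
  have hone : ∀ x y : G, orderOf x = 2 → orderOf y = 2 → IsConj x y := by
    have key : ∀ x : G, orderOf x = 2 → IsConj t x := by
      intro x hx
      obtain ⟨S', hxS', -⟩ := h.exists_sylow hnc hx
      obtain ⟨c, hc'⟩ := MulAction.exists_smul_eq G S' S
      have hcx : c * x * c⁻¹ ∈ (S : Subgroup G) := by
        have e : (S : Subgroup G) = MulAut.conj c • (S' : Subgroup G) := by
          rw [← hc']; rfl
        rw [e]
        exact Subgroup.smul_mem_pointwise_smul x (MulAut.conj c) _ hxS'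
      exact (hconjS _ hcx fun e => Invol.ne_one hx (conj_eq_one_iff.1 e)).trans
        (isConj_iff.2 ⟨c, rfl⟩).symm
    exact fun x y hx hy => (key x hx).symm.trans (key y hy)
  have hmain : DGroup.Main A a t :=
    { hyp := hyp
      jA := ⟨htA, hts, Invol.ne_one ht⟩
      uniq := huniq
      sylow := ⟨S, fun s hs => hCt s (hS hs)⟩
      noOdd := fun N hN hodd => by
        rcases IsSimpleGroup.eq_bot_or_eq_top_of_normal N hN with e | e
        · exact e
        · rw [e, Subgroup.card_top] at hodd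
          exact absurd (h.two_dvd hnc) hodd.not_two_dvd_nat
      oneClass := hone }
  obtain ⟨F, hF, hFt, hFodd, hF3, ⟨e⟩⟩ := hmain.psl (h.not_solvable hnc)
  obtain ⟨r, hr⟩ := CharP.exists F
  haveI : Fact r.Prime := ⟨CharP.char_is_prime F r⟩
  obtain ⟨n, -, hn⟩ := FiniteField.card F r
  have hq5 : Fintype.card F = 5 := by
    obtain ⟨g₁, hg₁⟩ := SL2Orders.exists_orderOf_char (F := F) r
    obtain ⟨g₂, hg₂⟩ := SL2Orders.exists_orderOf_split (F := F) (by
      obtain ⟨m, hm⟩ := hFodd; omega)
    obtain ⟨g₃, hg₃⟩ := SL2Orders.exists_orderOf_nonsplit (F := F) r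
    have o : ∀ (x : Matrix.ProjectiveSpecialLinearGroup (Fin 2) F), orderOf x = 1 ∨ orderOf x = 2 ∨
        orderOf x = p ∨ orderOf x = q ∨ orderOf x = 2 * p := fun x => by
      rw [← MulEquiv.orderOf_eq e.symm x]; exact h.orders _
    have o1 := o g₁
    have o2 := o g₂
    have o3 := o g₃
    rw [hg₁] at o1
    rw [hg₂] at o2
    rw [hg₃] at o3
    obtain ⟨m, hm⟩ := hFodd
    have ha : SL2Orders.halfPred (Fintype.card F) = m := by
      rw [SL2Orders.halfPred, hm, Nat.add_sub_cancel,
        Nat.gcd_eq_right (dvd_mul_right 2 m), Nat.mul_div_cancel_left m two_pos]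
    have hb : SL2Orders.halfSucc (Fintype.card F) = m + 1 := by
      rw [SL2Orders.halfSucc, hm, show 2 * m + 1 + 1 = 2 * (m + 1) by ring,
        Nat.gcd_eq_right (dvd_mul_right 2 _), Nat.mul_div_cancel_left _ two_pos]
    rw [ha] at o2
    rw [hb] at o3
    have hrd : r ∣ 2 * m + 1 := by rw [← hm, hn]; exact dvd_pow_self r n.ne_zero
    have hrp := (Fact.out : r.Prime)
    have hr2 : r ≠ 2 := fun e => by subst e; omega
    have hnd1 : ¬ r ∣ m := fun hd => hrp.ne_one (Nat.dvd_one.1
      ((Nat.dvd_add_right (dvd_mul_of_dvd_right hd 2)).1 hrd))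
    have hnd2 : ¬ r ∣ m + 1 := fun hd => hrp.ne_one (Nat.dvd_one.1 (by
      have := Nat.dvd_sub (dvd_mul_of_dvd_right hd 2) hrd
      rwa [show 2 * (m + 1) - (2 * m + 1) = 1 by omega] at this))
    have hm2 : 2 ≤ m := by omega
    obtain ⟨kp, hkp⟩ := h.odd_p
    obtain ⟨kq, hkq⟩ := h.hq.odd_of_ne_two h.q2
    have hrpq : r = p ∨ r = q := by
      rcases o1 with e1 | e1 | e1 | e1 | e1
      · exact absurd e1 hrp.ne_one
      · exact absurd e1 hr2
      · exact Or.inl e1
      · exact Or.inr e1
      · exact absurd (e1 ▸ hrp) (Nat.not_prime_mul (by norm_num) h.hp.ne_one)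
    have hp3 := h.hp.two_le
    have hq3 := h.hq.two_le
    have hm2' : m = 2 := by
      rcases Nat.even_or_odd m with ⟨c, hc'⟩ | ⟨c, hc'⟩
      · rcases o2 with e2 | e2 | e2 | e2 | e2 <;> try omega
        rcases o3 with e3 | e3 | e3 | e3 | e3 <;> try omega
        · exfalso
          rcases hrpq with rfl | rfl
          · exact hnd1 (e2 ▸ dvd_mul_left _ 2)
          · exact hnd2 (e3 ▸ dvd_rfl)
      · rcases o3 with e3 | e3 | e3 | e3 | e3 <;> try omega
        rcases o2 with e2 | e2 | e2 | e2 | e2 <;> try omega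
        · exfalso
          rcases hrpq with rfl | rfl
          · exact hnd2 (e3 ▸ dvd_mul_left _ 2)
          · exact hnd1 (e2 ▸ dvd_rfl)
    omega
  have hcard := Dickson.gcd_mul_card_psl (K := F)
  rw [← Nat.card_congr e.toEquiv, Nat.card_eq_fintype_card (α := F), hq5] at hcard
  norm_num at hcard
  omega

end Setup

end Cfsg.Agent.FiveOrbits
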