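import Cfsg.Agent.Lib.FiveOrbits.Central

/-!
# Five orbits: every element of order `p` centralises exactly one class of involutions
-/

set_option autoImplicit false
set_option linter.style.haveILetI false
set_option linter.unusedSectionVars false

namespace Cfsg.Agent.FiveOrbits

open Cfsg.Agent.Invol Cfsg.Agent.CNSimple

universe u

variable {G : Type u} [Group G] [Finite G]

/-- `z`, a Sylow subgroup `P` centralising it and an involution `τ` of its centraliser. -/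
structure Axis (p : ℕ) (z : G) (P : Sylow p G) (τ : G) : Prop where
  ord : orderOf τ = 2
  comm : τ * z = z * τ
  mem : z ∈ (P : Subgroup G)
  le : (P : Subgroup G) ≤ Ct z
  max : ∀ x ∈ Ct z, x ^ p = 1 → x ∈ (P : Subgroup G)
  norm : ∀ x ∈ (P : Subgroup G), τ * x * τ ∈ (P : Subgroup G)
  fixed : ∀ x ∈ (P : Subgroup G), τ * x * τ = x → x ∈ Subgroup.zpowers z
  split : ∀ y ∈ (P : Subgroup G), ∃ k ∈ (P : Subgroup G), ∃ c ∈ Subgroup.zpowers z,
    τ * k * τ = k⁻¹ ∧ y = k * c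

theorem conj_invol_mul {τ : G} (hτ : τ * τ = 1) (x y : G) :
    τ * (x * y) * τ = (τ * x * τ) * (τ * y * τ) := by
  calc τ * (x * y) * τ = τ * x * (τ * τ) * y * τ := by rw [hτ]; group
    _ = _ := by group

theorem conj_invol_inv {τ : G} (hτ : τ * τ = 1) (x : G) : τ * x⁻¹ * τ = (τ * x * τ)⁻¹ := by
  rw [mul_inv_rev, mul_inv_rev, inv_eq_of_mul_eq_one_right hτ, mul_assoc]

theorem conj_invol_invol {τ : G} (hτ : τ * τ = 1) (x : G) : τ * (τ * x * τ) * τ = x := by
  rw [show τ * (τ * x * τ) * τ = (τ * τ) * x * (τ * τ) by group, hτ, one_mul, mul_one]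

namespace Setup

variable {p q : ℕ} (h : Setup G p q) [IsSimpleGroup G] (hnc : ∃ a b : G, a * b ≠ b * a)
  (hN : ∀ t : G, orderOf t = 2 → NoOddAt t)
include h hnc hN

theorem not_sq_Ct {t : G} (ht : orderOf t = 2) : ¬ p ^ 2 ∣ Nat.card (Ct t) := fun hd => by
  obtain ⟨S, htS, hS⟩ := h.exists_sylow hnc ht
  exact (h.normalizer_facts hnc hN S).2
    (hd.trans (Subgroup.card_dvd_of_le (h.Ct_le_normalizer hnc hN ht S hS)))

theorem sq_dvd_sylow [Fact p.Prime] (P : Sylow p G) : p ^ 2 ∣ Nat.card P := by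
  obtain ⟨k, hk⟩ := IsPGroup.iff_card.1 P.isPGroup'
  by_cases hk2 : 2 ≤ k
  · exact hk ▸ pow_dvd_pow p hk2
  exfalso
  obtain ⟨t, ht⟩ := exists_prime_orderOf_dvd_card' (hp := ⟨Nat.prime_two⟩) (G := G) 2 (h.two_dvd hnc)
  obtain ⟨S, htS, hS⟩ := h.exists_sylow hnc ht
  obtain ⟨z, hzo, hzt⟩ := h.exists_mem ht
  refine h.not_both hnc (Or.inl ht) S P (Subgroup.card_dvd_of_le hS) ?_
  have hd : p ∣ Nat.card (Ct t) := hzo ▸ Subgroup.orderOf_dvd_natCard _ hzt
  show Nat.card (P : Subgroup G) ∣ _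
  rw [hk]
  exact (pow_dvd_pow p (show k ≤ 1 by omega)).trans ((pow_one p).symm ▸ hd)

theorem exp_p {P : Subgroup G} (hP : IsPGroup p P) {x : G} (hx : x ∈ P) : x ^ p = 1 := by
  haveI := Fact.mk h.hp
  obtain ⟨k, hk⟩ := IsPGroup.iff_orderOf.1 hP ⟨x, hx⟩
  rw [Subgroup.orderOf_mk] at hk
  apply orderOf_dvd_iff_pow_eq_one.1
  rcases h.orders x with e | e | e | e | e
  · rw [e]; exact one_dvd p
  · rw [hk] at e
    exact absurd ((Nat.prime_dvd_prime_iff_eq Nat.prime_two h.hp).1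
      (Nat.prime_two.dvd_of_dvd_pow (e.symm.dvd))) (Ne.symm h.p2)
  · rw [e]
  · rw [hk] at e
    exact absurd ((Nat.prime_dvd_prime_iff_eq h.hq h.hp).1
      (h.hq.dvd_of_dvd_pow (e.symm.dvd))) (Ne.symm h.pq)
  · rw [hk] at e
    exact absurd ((Nat.prime_dvd_prime_iff_eq Nat.prime_two h.hp).1
      (Nat.prime_two.dvd_of_dvd_pow ((dvd_mul_right 2 p).trans e.symm.dvd))) (Ne.symm h.p2)

theorem exists_invol {z : G} (hz : orderOf z = p) : ∃ τ : G, orderOf τ = 2 ∧ τ ∈ Ct z := by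
  obtain ⟨t, ht⟩ := exists_prime_orderOf_dvd_card' (hp := ⟨Nat.prime_two⟩) (G := G) 2 (h.two_dvd hnc)
  obtain ⟨w, hwo, hwt⟩ := h.exists_mem ht
  obtain ⟨α, hα⟩ := h.aut w z (hwo.trans hz.symm)
  refine ⟨α t, by rw [MulEquiv.orderOf_eq, ht], ?_⟩
  rw [← hα, mem_Ct_map]
  exact mem_Ct.2 (mem_Ct.1 hwt).symm

/-- The centraliser of an element of order `p` has Sylow `2`-subgroups of order `2`. -/
theorem two_part {z : G} (hz : orderOf z = p) : (Nat.card (Ct z)).factorization 2 = 1 := by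
  classical
  haveI : Fact (Nat.Prime 2) := ⟨Nat.prime_two⟩
  haveI := Fact.mk h.hp
  obtain ⟨τ, hτ, hτz⟩ := h.exists_invol hnc hN hz
  have h2 : 2 ∣ Nat.card (Ct z) := hτ ▸ Subgroup.orderOf_dvd_natCard _ hτz
  have hpos := Nat.prime_two.factorization_pos_of_dvd Nat.card_pos.ne' h2
  by_contra hne
  have h4 : 2 ≤ (Nat.card (Ct z)).factorization 2 := by omega
  haveI := h.solvable_Ct (x := z) (Or.inr hz)
  obtain ⟨D₀⟩ : Nonempty (Sylow 2 (Ct z)) := inferInstance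
  set D : Subgroup G := (D₀ : Subgroup (Ct z)).map (Ct z).subtype with hD
  have hDz : D ≤ Ct z := Subgroup.map_subtype_le _
  have hD2 : IsPGroup 2 D := D₀.isPGroup'.map _
  obtain ⟨S, hDS⟩ := hD2.exists_le_sylow
  set M := Subgroup.normalizer ((S : Subgroup G) : Set G) with hM
  haveI : IsMulCommutative D :=
    IsMulCommutative.of_comm fun a b => Subtype.ext (h.two_group_comm hD2 a.2 b.2)
  have hDcard : 4 ≤ Nat.card D := by
    rw [hD, Subgroup.card_map_of_injective (Ct z).subtype_injective, D₀.card_eq_multiplicity]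
    calc 4 = 2 ^ 2 := rfl
      _ ≤ _ := Nat.pow_le_pow_right two_pos h4
  have hDnc : ¬ IsCyclic D := fun hc => by
    obtain ⟨g, hg⟩ := IsCyclic.exists_generator (α := D)
    have h1 : orderOf g = Nat.card D := orderOf_eq_card_of_forall_mem_zpowers hg
    have : orderOf g ≤ 2 := Nat.le_of_dvd two_pos (orderOf_dvd_of_pow_eq_one
      (Subtype.ext (by rw [Subgroup.coe_pow, pow_two]; exact h.two_group_sq hD2 g.2)))
    omega
  set R₀ := Cfsg.pPrimeCore 2 (Ct z) with hR₀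
  haveI : R₀.Normal := FittingCores.pPrimeCore_normal 2
  set R : Subgroup G := R₀.map (Ct z).subtype with hR
  have hRz : R ≤ Ct z := Subgroup.map_subtype_le _
  have hRodd : Odd (Nat.card R) := by
    rw [hR, Subgroup.card_map_of_injective (Ct z).subtype_injective]
    exact Nat.coprime_two_right.1 (FittingCores.pPrimeCore_coprime 2)
  have hRexp : ∀ x ∈ R, x ^ p = 1 := fun x hx => orderOf_dvd_iff_pow_eq_one.1
    ((Nat.coprime_two_right.2 (hRodd.of_dvd_nat (Subgroup.orderOf_dvd_natCard R hx))).dvd_of_dvd_mul_left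
      (h.dvd_two_mul (Or.inr hz) (mem_Ct.1 (hRz hx))))
  have hRn : D ≤ Subgroup.normalizer (R : Set G) := by
    intro g hg
    refine Subgroup.mem_normalizer_iff.2 fun n => ?_
    constructor
    · rintro ⟨m, hm, rfl⟩
      exact ⟨⟨g, hDz hg⟩ * m * ⟨g, hDz hg⟩⁻¹, Subgroup.Normal.conj_mem ‹_› m hm _, rfl⟩
    · rintro ⟨m, hm, e⟩
      refine ⟨⟨g, hDz hg⟩⁻¹ * m * ⟨g, hDz hg⟩, Subgroup.Normal.conj_mem' ‹_› m hm _, ?_⟩
      show g⁻¹ * ((Ct z).subtype m) * g = n
      rw [e]; group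
  have hcop : (Nat.card D).Coprime (Nat.card R) := by
    obtain ⟨k, hk⟩ := IsPGroup.iff_card.1 hD2
    exact hk ▸ (Nat.coprime_two_left.2 hRodd).pow_left k
  have hRM : R ≤ M := (CoprimeAct.generated_by_centralizers hDnc hRn hcop).ge.trans
    (iSup₂_le fun d hd => inf_le_right.trans (h.cent_le hnc hN (hDS hd.1) hd.2))
  -- so `R = ⟨z⟩` is central
  have hzR : z ∈ R := by
    have hzC : z ∈ Ct z := mem_Ct.2 rfl
    refine ⟨⟨z, hzC⟩, FittingCores.le_pPrimeCore (N := Subgroup.zpowers (⟨z, hzC⟩ : Ct z)) ?_ ?_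
      (Subgroup.mem_zpowers _), rfl⟩
    · refine ⟨fun a ha g => ?_⟩
      obtain ⟨k, rfl⟩ := Subgroup.mem_zpowers_iff.1 ha
      have hc : Commute g (⟨z, hzC⟩ : Ct z) := Subtype.ext (mem_Ct.1 g.2)
      rw [(hc.zpow_right k).eq, mul_inv_cancel_right]
      exact zpow_mem (Subgroup.mem_zpowers _) k
    · rw [Nat.card_zpowers, Subgroup.orderOf_mk, hz]
      exact (Nat.coprime_primes h.hp Nat.prime_two).2 h.p2
  have hRcard : R = Subgroup.zpowers z := by
    refine (Subgroup.eq_of_le_of_card_ge (Subgroup.zpowers_le.2 hzR) ?_).symm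
    obtain ⟨k, hk⟩ := IsPGroup.iff_card.1
      (show IsPGroup p R from fun x => ⟨1, Subtype.ext (by rw [pow_one]; exact hRexp x x.2)⟩)
    rw [Nat.card_zpowers, hz, hk]
    refine (Nat.pow_le_pow_right h.hp.pos ?_).trans_eq (pow_one p)
    by_contra hk1
    refine (h.normalizer_facts hnc hN S).2 ?_
    exact ((pow_dvd_pow p (show 2 ≤ k by omega)).trans hk.symm.dvd).trans
      (Subgroup.card_dvd_of_le hRM)
  have hcen : ∀ r ∈ R₀, ∀ g : Ct z, g * r = r * g := by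
    intro r hr g
    have : (r : G) ∈ Subgroup.zpowers z := hRcard ▸ ⟨r, hr, rfl⟩
    obtain ⟨k, hk⟩ := Subgroup.mem_zpowers_iff.1 this
    apply Subtype.ext
    show (g : G) * r = r * g
    rw [← hk]
    exact ((show Commute (g : G) z from mem_Ct.1 g.2).zpow_right k).eq
  -- hence `D` is normal in the centraliser
  have hO : Cfsg.pCore 2 (Ct z) ≤ (D₀ : Subgroup (Ct z)) := FittingCores.pCore_le_sylow D₀
  haveI : (Cfsg.pCore 2 (Ct z)).Normal := FittingCores.pCore_normal 2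
  have hcomm : ∀ a ∈ (D₀ : Subgroup (Ct z)), ∀ b ∈ (D₀ : Subgroup (Ct z)), a * b = b * a :=
    fun a ha b hb => Subtype.ext (h.two_group_comm hD2 ⟨a, ha, rfl⟩ ⟨b, hb, rfl⟩)
  have hDle : (D₀ : Subgroup (Ct z)) ≤ Cfsg.pCore 2 (Ct z) := by
    intro d hd
    have hcent : d ∈ Subgroup.centralizer (Cfsg.fittingSubgroup (Ct z) : Set (Ct z)) := by
      refine Subgroup.mem_centralizer_iff.2 fun f hf => ?_
      obtain ⟨a, ha, r, hr, rfl⟩ := Subgroup.mem_sup_of_normal_right.1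
        (FittingCores.fitting_le_pCore_sup_pPrimeCore Nat.prime_two hf)
      have c1 : Commute d a := hcomm d hd a (hO ha)
      have c2 : Commute d r := hcen r hr d
      exact (c1.mul_right c2).symm.eq
    obtain ⟨a, ha, r, hr, rfl⟩ := Subgroup.mem_sup_of_normal_right.1
      (FittingCores.fitting_le_pCore_sup_pPrimeCore Nat.prime_two
        (FittingCores.centralizer_fitting_le hcent))
    suffices r = 1 by rw [this, mul_one]; exact ha
    have hrD : r ∈ (D₀ : Subgroup (Ct z)) := by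
      have := mul_mem (inv_mem (hO ha)) hd
      rwa [inv_mul_cancel_left] at this
    refine Subtype.ext (Invol.eq_one_of_sq_of_odd (hRodd.of_dvd_nat
      (Subgroup.orderOf_dvd_natCard R ⟨r, hr, rfl⟩)) ?_)
    rw [pow_two]
    exact h.two_group_sq hD2 ⟨r, hrD, rfl⟩
  haveI hDn : (D₀ : Subgroup (Ct z)).Normal := le_antisymm hO hDle ▸ inferInstance
  obtain ⟨⟨d, hdD⟩, hd1⟩ := Finite.one_lt_card_iff_nontrivial.1 (show 1 < Nat.card D by omega) |>.exists_pair_ne
    |> fun ⟨a, b, hab⟩ => (em (a = 1)).elim (fun e => (⟨b, fun e' => hab (e.trans e'.symm)⟩ : ∃ x : D, x ≠ 1))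
      (fun e => ⟨a, e⟩)
  have hle : Ct z ≤ M := by
    intro g hg
    have hd1' : d ≠ 1 := fun e => hd1 (Subtype.ext e)
    obtain ⟨d', hd', rfl⟩ := hdD
    exact h.ti hnc hN (hDS ⟨d', hd', rfl⟩) hd1'
      (hDS ⟨⟨g, hg⟩ * d' * ⟨g, hg⟩⁻¹, hDn.conj_mem d' hd' _, rfl⟩)
  obtain ⟨P⟩ : Nonempty (Sylow p G) := inferInstance
  exact (h.normalizer_facts hnc hN S).2 ((h.sq_dvd_sylow hnc hN P).trans
    ((h.card_dvd_Ct hnc hz P).trans (Subgroup.card_dvd_of_le hle)))

theorem exists_axis [Fact p.Prime] {z : G} (hz : orderOf z = p) :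
    ∃ (P : Sylow p G) (τ : G), Axis p z P τ := by
  classical
  obtain ⟨τ, hτ, hτz⟩ := h.exists_invol hnc hN hz
  obtain ⟨a, b, hab⟩ := h.card_Ct_pq (x := z) (Or.inr hz)
  have hp0 : (p ^ b).factorization 2 = 0 := by
    rw [h.hp.factorization_pow, Finsupp.single_eq_of_ne]
    exact Ne.symm h.p2
  have ha : a = 1 := by
    have := h.two_part hnc hN hz
    rwa [hab, Nat.factorization_mul (pow_ne_zero a two_ne_zero) (pow_ne_zero b h.hp.ne_zero),
      Finsupp.add_apply, Nat.prime_two.factorization_pow, Finsupp.single_eq_same, hp0,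
      add_zero] at this
  subst ha
  obtain ⟨Q⟩ : Nonempty (Sylow p (Ct z)) := inferInstance
  have hQc : Nat.card Q = p ^ b := by
    rw [Q.card_eq_multiplicity, hab, Nat.factorization_mul (by norm_num) (pow_ne_zero b h.hp.ne_zero),
      Finsupp.add_apply, h.hp.factorization_pow, Finsupp.single_eq_same, pow_one,
      Nat.prime_two.factorization, Finsupp.single_eq_of_ne h.p2, zero_add]
  have hidx : (Q : Subgroup (Ct z)).index = 2 := by
    have := (Q : Subgroup (Ct z)).card_mul_index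
    rw [hQc, hab, pow_one, mul_comm 2] at this
    exact Nat.eq_of_mul_eq_mul_left (pow_pos h.hp.pos b) this
  haveI : (Q : Subgroup (Ct z)).Normal := Subgroup.normal_of_index_eq_two hidx
  obtain ⟨P₀⟩ : Nonempty (Sylow p G) := inferInstance
  have hPc : Nat.card ((Q : Subgroup (Ct z)).map (Ct z).subtype : Subgroup G) =
      p ^ (Nat.card G).factorization p := by
    rw [Subgroup.card_map_of_injective (Ct z).subtype_injective, hQc]
    refine Nat.dvd_antisymm (pow_dvd_pow p ((h.hp.pow_dvd_iff_le_factorization Nat.card_pos.ne').1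
      ((Dvd.intro_left _ hab.symm).trans (Ct z).card_subgroup_dvd_card))) ?_
    rw [← P₀.card_eq_multiplicity]
    refine Nat.Coprime.dvd_of_dvd_mul_left ?_ (hab ▸ h.card_dvd_Ct hnc hz P₀)
    rw [P₀.card_eq_multiplicity]
    exact ((Nat.coprime_primes h.hp Nat.prime_two).2 h.p2).pow _ _
  set P : Sylow p G := Sylow.ofCard _ hPc with hP
  have hPe : (P : Subgroup G) = (Q : Subgroup (Ct z)).map (Ct z).subtype := rfl
  have hle : (P : Subgroup G) ≤ Ct z := Subgroup.map_subtype_le _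
  have hmax : ∀ x ∈ Ct z, x ^ p = 1 → x ∈ (P : Subgroup G) := by
    intro x hx hxp
    refine ⟨⟨x, hx⟩, ?_, rfl⟩
    obtain ⟨k, hk⟩ := h.odd_p
    have e : (⟨x, hx⟩ : Ct z) = ((⟨x, hx⟩ : Ct z) ^ 2) ^ (k + 1) := Subtype.ext (by
      push_cast
      rw [← pow_mul, show 2 * (k + 1) = p + 1 by omega, pow_succ, hxp, one_mul])
    rw [e]
    exact pow_mem (Subgroup.sq_mem_of_index_two hidx _) _
  have hzP : z ∈ (P : Subgroup G) :=
    hmax z (mem_Ct.2 rfl) (hz ▸ pow_orderOf_eq_one z)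
  have hττ : τ * τ = 1 := Invol.mul_self hτ
  have hτi : τ⁻¹ = τ := inv_eq_of_mul_eq_one_right hττ
  have hnorm : ∀ x ∈ (P : Subgroup G), τ * x * τ ∈ (P : Subgroup G) := by
    intro x hx
    refine hmax _ (mul_mem (mul_mem hτz (hle hx)) hτz) ?_
    have := h.exp_p hnc hN P.isPGroup' hx
    calc (τ * x * τ) ^ p = (τ * x * τ⁻¹) ^ p := by rw [hτi]
      _ = 1 := by rw [_root_.conj_pow, this]; group
  have hfixed : ∀ x ∈ (P : Subgroup G), τ * x * τ = x → x ∈ Subgroup.zpowers z := by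
    intro x hx hfix
    by_contra hxz
    set A : Subgroup G := Subgroup.zpowers z ⊔ Subgroup.zpowers x with hA
    have hAt : A ≤ Ct τ := sup_le (Subgroup.zpowers_le.2 (mem_Ct.2 (mem_Ct.1 hτz).symm))
      (Subgroup.zpowers_le.2 (mem_Ct.2 (by
        conv_lhs => rw [← hfix]
        rw [mul_assoc, hττ, mul_one])))
    have hAP : A ≤ (P : Subgroup G) :=
      sup_le (Subgroup.zpowers_le.2 hzP) (Subgroup.zpowers_le.2 hx)
    obtain ⟨k, hk⟩ := IsPGroup.iff_card.1 (P.isPGroup'.to_le hAP)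
    refine h.not_sq_Ct hnc hN hτ (((pow_dvd_pow p (show 2 ≤ k from ?_)).trans hk.symm.dvd).trans
      (Subgroup.card_dvd_of_le hAt))
    by_contra hk2
    refine hxz ((Subgroup.eq_of_le_of_card_ge (le_sup_left : Subgroup.zpowers z ≤ A) ?_).ge
      (Subgroup.mem_sup_right (Subgroup.mem_zpowers x)))
    rw [Nat.card_zpowers, hz, hk]
    exact (Nat.pow_le_pow_right h.hp.pos (show k ≤ 1 by omega)).trans_eq (pow_one p)
  refine ⟨P, τ, ⟨hτ, mem_Ct.1 hτz, hzP, hle, hmax, hnorm, hfixed, ?_⟩⟩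
  -- the inverted elements represent all cosets of `⟨z⟩`
  let J := {k : (P : Subgroup G) // τ * (k : G) * τ = (k : G)⁻¹}
  have hJ : ∀ x : (P : Subgroup G), τ * ((x : G)⁻¹ * (τ * x * τ)) * τ =
      ((x : G)⁻¹ * (τ * x * τ))⁻¹ := fun x => by
    rw [conj_invol_mul hττ, conj_invol_invol hττ, mul_inv_rev, inv_inv, conj_invol_inv hττ]
  let f : ↥(P : Subgroup G) → J := fun x =>
    ⟨⟨_, mul_mem (inv_mem x.2) (hnorm x x.2)⟩, hJ x⟩
  let σ : J → ↥(P : Subgroup G) := fun k => if hk : ∃ x, f x = k then hk.choose else 1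
  have hσ : ∀ x : ↥(P : Subgroup G), (x : G) * (σ (f x) : G)⁻¹ ∈ Subgroup.zpowers z := by
    intro x
    have hk : ∃ x', f x' = f x := ⟨x, rfl⟩
    have e : f (σ (f x)) = f x := by
      simp only [σ, dif_pos hk]; exact hk.choose_spec
    have e' : (σ (f x) : G)⁻¹ * (τ * σ (f x) * τ) = (x : G)⁻¹ * (τ * x * τ) :=
      congrArg (fun j : J => (j.1 : G)) e
    set w := (σ (f x) : G)
    refine hfixed _ (mul_mem x.2 (inv_mem (σ (f x)).2)) ?_
    rw [conj_invol_mul hττ, conj_invol_inv hττ]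
    calc τ * x * τ * (τ * w * τ)⁻¹ = x * ((x : G)⁻¹ * (τ * x * τ)) * (τ * w * τ)⁻¹ := by group
      _ = x * (w⁻¹ * (τ * w * τ)) * (τ * w * τ)⁻¹ := by rw [e']
      _ = _ := by group
  have h1 : Nat.card (P : Subgroup G) ≤ Nat.card (J × Subgroup.zpowers z) := by
    refine Nat.card_le_card_of_injective (fun x => (f x, ⟨_, hσ x⟩)) fun x y e => Subtype.ext ?_
    have e1 : f x = f y := (Prod.mk.injEq _ _ _ _ ▸ e).1
    have e2 : (x : G) * (σ (f x) : G)⁻¹ = (y : G) * (σ (f y) : G)⁻¹ :=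
      congrArg Subtype.val (Prod.mk.injEq _ _ _ _ ▸ e).2
    rw [e1] at e2
    exact mul_right_cancel e2
  have hzle : Subgroup.zpowers z ≤ (P : Subgroup G) := Subgroup.zpowers_le.2 hzP
  have hcz : ∀ c ∈ Subgroup.zpowers z, τ * c * τ = c ∧ ∀ y ∈ (P : Subgroup G), y * c = c * y := by
    intro c hc
    obtain ⟨i, rfl⟩ := Subgroup.mem_zpowers_iff.1 hc
    refine ⟨?_, fun y hy => ((show Commute y z from mem_Ct.1 (hle hy)).zpow_right i).eq⟩
    rw [((show Commute τ z from mem_Ct.1 hτz).zpow_right i).eq, mul_assoc, hττ, mul_one]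
  let Ψ : J × Subgroup.zpowers z → ↥(P : Subgroup G) := fun v =>
    ⟨(v.1.1 : G) * v.2, mul_mem v.1.1.2 (hzle v.2.2)⟩
  have hΨ : Function.Injective Ψ := by
    rintro ⟨⟨⟨k, hk⟩, hki⟩, ⟨c, hc⟩⟩ ⟨⟨⟨k', hk'⟩, hki'⟩, ⟨c', hc'⟩⟩ e
    have e' : k * c = k' * c' := congrArg Subtype.val e
    simp only at hki hki'
    set d := c * c'⁻¹ with hd
    have hdz : d ∈ Subgroup.zpowers z := mul_mem hc (inv_mem hc')
    have e1 : k' = k * d := by rw [hd, ← mul_assoc, e', mul_inv_cancel_right]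
    have e2 : k⁻¹ * d = k⁻¹ * d⁻¹ := by
      conv_lhs => rw [← hki, ← (hcz d hdz).1, ← conj_invol_mul hττ, ← e1, hki', e1, mul_inv_rev]
      rw [← (hcz d⁻¹ (inv_mem hdz)).2 _ (inv_mem hk)]
    have hdd : d * d = 1 := mul_eq_one_iff_eq_inv.2 (mul_left_cancel e2)
    have hdo : Odd (orderOf d) := by
      refine h.odd_p.of_dvd_nat ?_
      have := Subgroup.orderOf_dvd_natCard _ hdz
      rwa [Nat.card_zpowers, hz] at this
    have hd1 : d = 1 := Invol.eq_one_of_sq_of_odd hdo (by rw [pow_two]; exact hdd)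
    have hkk : k = k' := by rw [e1, hd1, mul_one]
    subst hkk
    exact Prod.ext rfl (Subtype.ext (mul_left_cancel e'))
  intro y hy
  haveI := Fintype.ofFinite (J × Subgroup.zpowers z)
  obtain ⟨⟨⟨⟨k, hk⟩, hki⟩, ⟨c, hc⟩⟩, e⟩ : ∃ v, Ψ v = ⟨y, hy⟩ :=
    ((Nat.bijective_iff_injective_and_card Ψ).2
      ⟨hΨ, le_antisymm (Nat.card_le_card_of_injective Ψ hΨ) h1⟩).2 _
  exact ⟨k, hk, c, hc, hki, (congrArg Subtype.val e).symm⟩

theorem comm_mem {z τ : G} {P : Sylow p G} (hA : Axis p z P τ) {a b : G}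
    (ha : a ∈ (P : Subgroup G)) (hb : b ∈ (P : Subgroup G)) :
    a * b * a⁻¹ * b⁻¹ ∈ Subgroup.zpowers z := by
  have hττ : τ * τ = 1 := Invol.mul_self hA.ord
  have hcent : ∀ c ∈ Subgroup.zpowers z, ∀ y ∈ (P : Subgroup G), Commute c y := by
    intro c hc y hy
    obtain ⟨i, rfl⟩ := Subgroup.mem_zpowers_iff.1 hc
    exact ((show Commute y z from mem_Ct.1 (hA.le hy)).zpow_right i).symm
  have hτc : ∀ c ∈ Subgroup.zpowers z, τ * c * τ = c := by
    intro c hc
    obtain ⟨i, rfl⟩ := Subgroup.mem_zpowers_iff.1 hc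
    rw [((show Commute τ z from hA.comm).zpow_right i).eq, mul_assoc, hττ, mul_one]
  have key : ∀ y ∈ (P : Subgroup G), ∃ c ∈ Subgroup.zpowers z, τ * y * τ = y⁻¹ * c := by
    intro y hy
    obtain ⟨k, hk, c, hc, hki, rfl⟩ := hA.split y hy
    refine ⟨c * c, mul_mem hc hc, ?_⟩
    rw [conj_invol_mul hττ, hki, hτc c hc, mul_inv_rev]
    calc k⁻¹ * c = c⁻¹ * (c * k⁻¹) * c := by group
      _ = c⁻¹ * (k⁻¹ * c) * c := by rw [(hcent c hc k⁻¹ (inv_mem hk)).eq]
      _ = _ := by group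
  obtain ⟨c₁, hc₁, e₁⟩ := key a ha
  obtain ⟨c₂, hc₂, e₂⟩ := key b hb
  obtain ⟨c₃, hc₃, e₃⟩ := key (a * b) (mul_mem ha hb)
  rw [conj_invol_mul hττ, e₁, e₂] at e₃
  have e4 : a⁻¹ * b⁻¹ * (c₁ * c₂) = b⁻¹ * a⁻¹ * c₃ := by
    rw [← mul_inv_rev a b, ← e₃, show a⁻¹ * c₁ * (b⁻¹ * c₂) = a⁻¹ * (c₁ * b⁻¹) * c₂ by group,
      (hcent c₁ hc₁ b⁻¹ (inv_mem hb)).eq]
    group
  have e5 : a * b * a⁻¹ * b⁻¹ = c₃ * (c₁ * c₂)⁻¹ := by
    rw [eq_mul_inv_iff_mul_eq, show a * b * a⁻¹ * b⁻¹ * (c₁ * c₂) =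
      a * b * (a⁻¹ * b⁻¹ * (c₁ * c₂)) by group, e4]
    group
  rw [e5]
  exact mul_mem hc₃ (inv_mem (mul_mem hc₁ hc₂))

theorem axis_eq {z τ : G} {P P' : Sylow p G} (hA : Axis p z P τ)
    (hP : (P' : Subgroup G) ≤ Ct z) : (P : Subgroup G) = (P' : Subgroup G) := by
  haveI := Fact.mk h.hp
  refine (Subgroup.eq_of_le_of_card_ge (fun x hx => hA.max x (hP hx) (h.exp_p hnc hN P'.isPGroup' hx)) ?_).symm
  exact le_of_eq (by rw [P.card_eq_multiplicity, P'.card_eq_multiplicity])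

/-- Sylow `p`-subgroups are abelian. -/
theorem sylow_comm [Fact p.Prime] (P : Sylow p G) {z a : G} (hz : z ∈ (P : Subgroup G))
    (ha : a ∈ (P : Subgroup G)) : a * z = z * a := by
  classical
  by_contra haz
  haveI : Nontrivial (P : Subgroup G) :=
    ⟨⟨⟨z, hz⟩, 1, fun e => haz (by rw [show z = 1 from congrArg Subtype.val e]; group)⟩⟩
  haveI := P.isPGroup'.center_nontrivial
  obtain ⟨⟨⟨c₀, hc₀P⟩, hc₀⟩, hc₀1⟩ := exists_ne (1 : Subgroup.center (P : Subgroup G))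
  have hc₀o : orderOf c₀ = p := h.order_prime (h.exp_p hnc hN P.isPGroup' hc₀P)
    fun e => hc₀1 (Subtype.ext (Subtype.ext e))
  obtain ⟨Pc, τc, hAc⟩ := h.exists_axis hnc hN hc₀o
  have hPc : (Pc : Subgroup G) = (P : Subgroup G) := h.axis_eq hnc hN hAc fun y hy =>
    mem_Ct.2 (congrArg Subtype.val (Subgroup.mem_center_iff.1 hc₀ ⟨y, hy⟩))
  set c := a * z * a⁻¹ * z⁻¹ with hc
  have hcmem : c ∈ Subgroup.zpowers c₀ := h.comm_mem hnc hN hAc (hPc ▸ ha) (hPc ▸ hz)
  have hc1 : c ≠ 1 := fun e => haz (mul_inv_eq_iff_eq_mul.1 (mul_inv_eq_one.1 e))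
  have hcP : ∀ y ∈ (P : Subgroup G), Commute c y := by
    intro y hy
    obtain ⟨i, hi⟩ := Subgroup.mem_zpowers_iff.1 hcmem
    rw [← hi]
    exact ((show Commute y c₀ from
      congrArg Subtype.val (Subgroup.mem_center_iff.1 hc₀ ⟨y, hy⟩)).zpow_right i).symm
  have hcPmem : c ∈ (P : Subgroup G) :=
    mul_mem (mul_mem (mul_mem ha hz) (inv_mem ha)) (inv_mem hz)
  have hco : orderOf c = p := h.order_prime (h.exp_p hnc hN P.isPGroup' hcPmem) hc1
  have hzo : orderOf z = p := h.order_prime (h.exp_p hnc hN P.isPGroup' hz)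
    fun e => haz (by rw [e, mul_one, one_mul])
  obtain ⟨Pz, τz, hAz⟩ := h.exists_axis hnc hN hzo
  have hcPz : c ∈ (Pz : Subgroup G) :=
    hAz.max c (mem_Ct.2 (hcP z hz).eq) (hco ▸ pow_orderOf_eq_one c)
  -- `c` is not central in the Sylow subgroup of `C(z)`
  obtain ⟨b₀, hb₀, hb₀c⟩ : ∃ b ∈ (Pz : Subgroup G), b * c ≠ c * b := by
    by_contra hcon
    push Not at hcon
    obtain ⟨P', τ', hA'⟩ := h.exists_axis hnc hN hco
    have e1 : (P' : Subgroup G) = (Pz : Subgroup G) :=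
      h.axis_eq hnc hN hA' fun y hy => mem_Ct.2 (hcon y hy)
    have e2 : (P' : Subgroup G) = (P : Subgroup G) :=
      h.axis_eq hnc hN hA' fun y hy => mem_Ct.2 (hcP y hy).symm.eq
    exact haz (mem_Ct.1 (hAz.le (e1.symm.trans e2 ▸ ha)))
  set d := b₀ * c * b₀⁻¹ * c⁻¹ with hd
  have hdz : d ∈ Subgroup.zpowers z := h.comm_mem hnc hN hAz hb₀ hcPz
  have hd1 : d ≠ 1 := fun e => hb₀c (mul_inv_eq_iff_eq_mul.1 (mul_inv_eq_one.1 e))
  have hzd : z⁻¹ ∈ Subgroup.zpowers d := by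
    have e : Subgroup.zpowers d = Subgroup.zpowers z := Subgroup.eq_of_le_of_card_ge
      (Subgroup.zpowers_le.2 hdz) (le_of_eq (by
        rw [Nat.card_zpowers, Nat.card_zpowers, hzo, h.order_prime (h.exp_p hnc hN Pz.isPGroup'
          (mul_mem (mul_mem (mul_mem hb₀ hcPz) (inv_mem hb₀)) (inv_mem hcPz))) hd1]))
    exact e ▸ inv_mem (Subgroup.mem_zpowers z)
  obtain ⟨j, hj⟩ := (isOfFinOrder_of_finite d).mem_zpowers_iff_mem_range_orderOf.1 hzd |>
    Finset.mem_image.1 |> fun ⟨j, _, e⟩ => (⟨j, e⟩ : ∃ j, d ^ j = z⁻¹)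
  have hb₀d : Commute b₀ d := by
    obtain ⟨i, hi⟩ := Subgroup.mem_zpowers_iff.1 hdz
    rw [← hi]
    exact (show Commute b₀ z from mem_Ct.1 (hAz.le hb₀)).zpow_right i
  have hbj : ∀ n : ℕ, b₀ ^ n * c * (b₀ ^ n)⁻¹ = d ^ n * c := by
    intro n
    induction n with
    | zero => simp
    | succ n ih =>
      calc b₀ ^ (n + 1) * c * (b₀ ^ (n + 1))⁻¹
          = b₀ * (b₀ ^ n * c * (b₀ ^ n)⁻¹) * b₀⁻¹ := by rw [pow_succ']; group
        _ = (b₀ * d ^ n * b₀⁻¹) * (b₀ * c * b₀⁻¹) := by rw [ih]; group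
        _ = d ^ n * (d * c) := by
          rw [(hb₀d.pow_right n).eq, mul_inv_cancel_right, hd, inv_mul_cancel_right]
        _ = d ^ (n + 1) * c := by rw [pow_succ]; exact (mul_assoc (d ^ n) d c).symm
  set b := b₀ ^ j with hb
  have hbc : b * c * b⁻¹ = z⁻¹ * c := by rw [hb, hbj, hj]
  have hbz : b * z * b⁻¹ = z := by
    rw [((show Commute b₀ z from mem_Ct.1 (hAz.le hb₀)).pow_left j).eq, mul_inv_cancel_right]
  have haz' : a * z * a⁻¹ = c * z := by rw [hc]; group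
  have hac : a * c * a⁻¹ = c := by rw [← (hcP a ha).eq, mul_inv_cancel_right]
  set w := a * b * a with hw
  have hwc : w * c * w⁻¹ = z⁻¹ := by
    calc w * c * w⁻¹ = a * (b * (a * c * a⁻¹) * b⁻¹) * a⁻¹ := by rw [hw]; group
      _ = a * (z⁻¹ * c) * a⁻¹ := by rw [hac, hbc]
      _ = (a * z * a⁻¹)⁻¹ * (a * c * a⁻¹) := by group
      _ = z⁻¹ := by rw [haz', hac]; group
  have hwz : w * z * w⁻¹ = c := by
    calc w * z * w⁻¹ = a * (b * (a * z * a⁻¹) * b⁻¹) * a⁻¹ := by rw [hw]; group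
      _ = a * ((b * c * b⁻¹) * (b * z * b⁻¹)) * a⁻¹ := by rw [haz']; group
      _ = a * (z⁻¹ * (c * z)) * a⁻¹ := by rw [hbc, hbz]; group
      _ = a * c * a⁻¹ := by rw [(hcP z hz).eq, inv_mul_cancel_left]
      _ = c := hac
  set u := w * w with hu
  have huc : u * c * u⁻¹ = c⁻¹ := by
    calc u * c * u⁻¹ = w * (w * c * w⁻¹) * w⁻¹ := by rw [hu]; group
      _ = (w * z * w⁻¹)⁻¹ := by rw [hwc]; group
      _ = c⁻¹ := by rw [hwz]
  have huodd : Odd (orderOf u) := by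
    have key : ∀ n : ℕ, Odd n → u ^ n = 1 → Odd (orderOf u) := fun n hn e =>
      hn.of_dvd_nat (orderOf_dvd_of_pow_eq_one e)
    have e2 : ∀ n, orderOf w ∣ 2 * n → u ^ n = 1 := fun n hn => by
      rw [hu, ← pow_two, ← pow_mul]; exact orderOf_dvd_iff_pow_eq_one.1 hn
    rcases h.orders w with e | e | e | e | e
    · exact key 1 odd_one (e2 1 (by rw [e]; exact one_dvd _))
    · exact key 1 odd_one (e2 1 (by rw [e, mul_one]))
    · exact key p h.odd_p (e2 p (e ▸ dvd_mul_left p 2))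
    · exact key q (h.hq.odd_of_ne_two h.q2) (e2 q (e ▸ dvd_mul_left q 2))
    · exact key p h.odd_p (e2 p (e ▸ dvd_rfl))
  obtain ⟨k, hk⟩ := huodd
  have hu2 : Commute (u * u) c := by
    show u * u * c = c * (u * u)
    have : u * u * c * (u * u)⁻¹ = c := by
      calc u * u * c * (u * u)⁻¹ = u * (u * c * u⁻¹) * u⁻¹ := by group
        _ = u * c⁻¹ * u⁻¹ := by rw [huc]
        _ = (u * c * u⁻¹)⁻¹ := by group
        _ = c := by rw [huc, inv_inv]
    calc u * u * c = u * u * c * (u * u)⁻¹ * (u * u) := by group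
      _ = c * (u * u) := by rw [this]
  have hu3 : Commute u c := by
    have : u = (u * u) ^ (k + 1) := by
      rw [← pow_two, ← pow_mul, show 2 * (k + 1) = orderOf u + 1 by omega, pow_succ,
        pow_orderOf_eq_one, one_mul]
    rw [this]
    exact hu2.pow_left _
  rw [hu3.eq, mul_inv_cancel_right] at huc
  exact hc1 (Invol.eq_one_of_sq_of_odd (hco ▸ h.odd_p)
    (by rw [pow_two]; exact mul_eq_one_iff_eq_inv.2 huc))

/-- The case without odd normal subgroups in involution centralisers does not occur. -/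
theorem central_false : False := by
  classical
  haveI := Fact.mk h.hp
  haveI : Fact (Nat.Prime 2) := ⟨Nat.prime_two⟩
  obtain ⟨z, hz⟩ := h.exists_p
  obtain ⟨P, τ, hA⟩ := h.exists_axis hnc hN hz
  obtain ⟨t, ht⟩ := exists_prime_orderOf_dvd_card' (G := G) 2 (h.two_dvd hnc)
  obtain ⟨S₀, -, -⟩ := h.exists_sylow hnc ht
  have hqbig := (h.normalizer_facts hnc hN S₀).1
  have hP2 : p ^ 2 ≤ Nat.card (P : Subgroup G) :=
    Nat.le_of_dvd Nat.card_pos (h.sq_dvd_sylow hnc hN P)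
  have hcomm : ∀ a ∈ (P : Subgroup G), ∀ b ∈ (P : Subgroup G), a * b = b * a :=
    fun a ha b hb => h.sylow_comm hnc hN P hb ha
  have hττ : τ * τ = 1 := Invol.mul_self hA.ord
  obtain ⟨y, hy, hyz⟩ : ∃ y ∈ (P : Subgroup G), y ∉ Subgroup.zpowers z := by
    by_contra hcon
    push Not at hcon
    have := Subgroup.card_le_of_le (show (P : Subgroup G) ≤ Subgroup.zpowers z from hcon)
    rw [Nat.card_zpowers, hz] at this
    have := h.hp.two_le
    nlinarith
  obtain ⟨k, hk, c, hc, hki, rfl⟩ := hA.split y hy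
  have hk1 : k ≠ 1 := fun e => hyz (by rw [e, one_mul]; exact hc)
  set w := z * k with hw
  have hwP : w ∈ (P : Subgroup G) := mul_mem hA.mem hk
  have hτz : τ * z * τ = z := by rw [hA.comm, mul_assoc, hττ, mul_one]
  have hτw : τ * w * τ = z * k⁻¹ := by rw [hw, conj_invol_mul hττ, hτz, hki]
  have hodd : ∀ x ∈ (P : Subgroup G), x * x = 1 → x = 1 := fun x hx e =>
    Invol.eq_one_of_sq_of_odd (h.odd_p.of_dvd_nat
      (orderOf_dvd_of_pow_eq_one (h.exp_p hnc hN P.isPGroup' hx))) (by rw [pow_two]; exact e)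
  have hk2 : k⁻¹ ≠ k := fun e => hk1 (hodd k hk (mul_eq_one_iff_eq_inv.2 e.symm))
  have hw1 : w ≠ 1 := fun e => by
    rw [e, mul_one, hττ] at hτw
    have e1 : z = k := mul_inv_eq_one.1 hτw.symm
    exact hk1 (hodd k hk (by rw [hw, e1] at e; exact e))
  have hwo : orderOf w = p := h.order_prime (h.exp_p hnc hN P.isPGroup' hwP) hw1
  obtain ⟨Pw, σ, hB⟩ := h.exists_axis hnc hN hwo
  have hPw : (Pw : Subgroup G) = (P : Subgroup G) :=
    h.axis_eq hnc hN hB fun x hx => mem_Ct.2 (hcomm x hx w hwP)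
  have hσσ : σ * σ = 1 := Invol.mul_self hB.ord
  have hσw : σ * w * σ = w := by rw [hB.comm, mul_assoc, hσσ, mul_one]
  have hnP : ∀ x ∈ (P : Subgroup G), σ * x * σ ∈ (P : Subgroup G) := fun x hx => by
    have := hB.norm x (hPw.symm ▸ hx)
    rwa [hPw] at this
  -- the square of `τ σ` moves `P`
  set g := τ * σ with hg
  have hgi : g⁻¹ = σ * τ := by
    rw [hg, mul_inv_rev, inv_eq_of_mul_eq_one_right hττ, inv_eq_of_mul_eq_one_right hσσ]
  have hg2 : ∃ x ∈ (P : Subgroup G), ¬ Commute (g * g) x := by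
    by_contra hcon
    push Not at hcon
    have e1 : g * g * w * (g * g)⁻¹ = w := by rw [(hcon w hwP).eq, mul_inv_cancel_right]
    have e2 : σ * (τ * w * τ) * σ = τ * w * τ := by
      calc σ * (τ * w * τ) * σ = g⁻¹ * w * g := by rw [hgi, hg]; group
        _ = g⁻¹ * (g * g * w * (g * g)⁻¹) * g := by rw [e1]
        _ = g * w * g⁻¹ := by group
        _ = τ * (σ * w * σ) * τ := by rw [hgi, hg]; group
        _ = τ * w * τ := by rw [hσw]
    have e3 : z * k⁻¹ ∈ Subgroup.zpowers w := by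
      rw [← hτw]
      refine hB.fixed _ (hPw.symm ▸ hA.norm w hwP) e2
    have e4 : z * z ∈ Subgroup.zpowers w := by
      have := mul_mem e3 (Subgroup.mem_zpowers w)
      rwa [hw, show z * k⁻¹ * (z * k) = z * (k⁻¹ * z) * k by group,
        hcomm _ (inv_mem hk) z hA.mem, show z * (z * k⁻¹) * k = z * z by group] at this
    have e5 : z ∈ Subgroup.zpowers w := by
      obtain ⟨m, hm⟩ := h.odd_p
      have : z = (z * z) ^ (m + 1) := by
        rw [← pow_two, ← pow_mul, show 2 * (m + 1) = p + 1 by omega, pow_succ, ← hz,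
          pow_orderOf_eq_one, one_mul]
      rw [this]
      exact pow_mem e4 _
    have e6 : w ∈ Subgroup.zpowers z := by
      have := Subgroup.eq_of_le_of_card_ge (Subgroup.zpowers_le.2 e5)
        (le_of_eq (by rw [Nat.card_zpowers, Nat.card_zpowers, hz, hwo]))
      exact this ▸ Subgroup.mem_zpowers w
    obtain ⟨i, hi⟩ := Subgroup.mem_zpowers_iff.1 e6
    have e7 : τ * w * τ = w := by
      rw [← hi, ((show Commute τ z from hA.comm).zpow_right i).eq, mul_assoc, hττ, mul_one]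
    rw [hτw] at e7
    exact hk2 (mul_left_cancel e7)
  obtain ⟨x₀, hx₀, hgx₀⟩ := hg2
  have hgP : g ∈ Subgroup.normalizer ((P : Subgroup G) : Set G) := by
    refine Subgroup.mem_normalizer_iff.2 fun x => ?_
    have e : ∀ x, g * x * g⁻¹ = τ * (σ * x * σ) * τ := fun x => by rw [hgi, hg]; group
    rw [e]
    refine ⟨fun hx => hA.norm _ (hnP x hx), fun hx => ?_⟩
    have := hnP _ (hA.norm _ hx)
    rwa [conj_invol_invol hττ, conj_invol_invol hσσ] at this
  have hpel : ∀ v ∈ Subgroup.normalizer ((P : Subgroup G) : Set G), v ^ p = 1 →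
      v ∈ (P : Subgroup G) := by
    intro v hv hvp
    have hV : IsPGroup p (Subgroup.zpowers v) := fun a => ⟨1, by
      obtain ⟨i, hi⟩ := Subgroup.mem_zpowers_iff.1 a.2
      refine Subtype.ext ?_
      rw [Subgroup.coe_pow, pow_one, ← hi, ← zpow_natCast, zpow_comm, zpow_natCast, hvp, one_zpow]
      rfl⟩
    exact (le_sup_right.trans (P.3 (P.isPGroup'.to_sup_of_normal_left' hV
      (Subgroup.zpowers_le.2 hv)) le_sup_left).le) (Subgroup.mem_zpowers v)
  have hgo : orderOf g = q := by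
    rcases h.orders g with e | e | e | e | e
    · exact absurd (by rw [orderOf_eq_one_iff.1 e, one_mul]; exact Commute.one_left _) hgx₀
    · exact absurd (by rw [Invol.mul_self e]; exact Commute.one_left _) hgx₀
    · have hgP' := hpel g hgP (e ▸ pow_orderOf_eq_one g)
      exact absurd (hcomm _ (mul_mem hgP' hgP') x₀ hx₀) hgx₀
    · exact e
    · have hgP' := hpel (g * g) (mul_mem hgP hgP)
        (by rw [← pow_two, ← pow_mul, ← e, pow_orderOf_eq_one])
      exact absurd (hcomm _ hgP' x₀ hx₀) hgx₀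
  have hgfix : ∀ x ∈ (P : Subgroup G), g * x = x * g → x = 1 := fun x hx e =>
    h.p_q_fpf hnc hN hgo (h.exp_p hnc hN P.isPGroup' hx) e
  let Jτ := {x : (P : Subgroup G) // τ * (x : G) * τ = (x : G)⁻¹}
  let Jσ := {x : (P : Subgroup G) // σ * (x : G) * σ = (x : G)⁻¹}
  have b1 : Nat.card (P : Subgroup G) ≤ Nat.card Jτ * p := by
    refine le_trans ?_ (le_of_eq (show Nat.card (Jτ × Subgroup.zpowers z) = _ by
      rw [Nat.card_prod, Nat.card_zpowers, hz]))
    refine Nat.card_le_card_of_surjective (fun v : Jτ × Subgroup.zpowers z =>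
      (⟨(v.1.1 : G) * v.2, mul_mem v.1.1.2 (Subgroup.zpowers_le.2 hA.mem v.2.2)⟩ :
        (P : Subgroup G))) ?_
    rintro ⟨x, hx⟩
    obtain ⟨a, ha, c', hc', hai, rfl⟩ := hA.split x hx
    exact ⟨⟨⟨⟨a, ha⟩, hai⟩, ⟨c', hc'⟩⟩, rfl⟩
  have b2 : Nat.card (P : Subgroup G) ≤ Nat.card Jσ * p := by
    refine le_trans ?_ (le_of_eq (show Nat.card (Jσ × Subgroup.zpowers w) = _ by
      rw [Nat.card_prod, Nat.card_zpowers, hwo]))
    refine Nat.card_le_card_of_surjective (fun v : Jσ × Subgroup.zpowers w =>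
      (⟨(v.1.1 : G) * v.2, mul_mem v.1.1.2 (Subgroup.zpowers_le.2 hwP v.2.2)⟩ :
        (P : Subgroup G))) ?_
    rintro ⟨x, hx⟩
    obtain ⟨a, ha, c', hc', hai, rfl⟩ := hB.split x (hPw.symm ▸ hx)
    exact ⟨⟨⟨⟨a, hPw ▸ ha⟩, hai⟩, ⟨c', hc'⟩⟩, rfl⟩
  have b3 : Nat.card Jτ * Nat.card Jσ ≤ Nat.card (P : Subgroup G) := by
    rw [← Nat.card_prod]
    refine Nat.card_le_card_of_injective
      (fun v => (⟨(v.1.1 : G) * v.2.1, mul_mem v.1.1.2 v.2.1.2⟩ : (P : Subgroup G))) ?_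
    rintro ⟨⟨⟨a, ha⟩, hai⟩, ⟨⟨b, hb⟩, hbi⟩⟩ ⟨⟨⟨a', ha'⟩, hai'⟩, ⟨⟨b', hb'⟩, hbi'⟩⟩ e
    have e' : a * b = a' * b' := congrArg Subtype.val e
    simp only at hai hai' hbi hbi'
    set d := a'⁻¹ * a with hd
    have hdb : d = b' * b⁻¹ := by
      rw [hd, inv_mul_eq_iff_eq_mul, ← mul_assoc, ← e', mul_inv_cancel_right]
    have hdP : d ∈ (P : Subgroup G) := mul_mem (inv_mem ha') ha
    have dτ : τ * d * τ = d⁻¹ := by
      rw [hd, conj_invol_mul hττ, conj_invol_inv hττ, hai', hai, inv_inv, mul_inv_rev, inv_inv,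
        hcomm a' ha' a⁻¹ (inv_mem ha)]
    have dσ : σ * d * σ = d⁻¹ := by
      rw [hdb, conj_invol_mul hσσ, conj_invol_inv hσσ, hbi', hbi, inv_inv, mul_inv_rev, inv_inv,
        hcomm b'⁻¹ (inv_mem hb') b hb]
    have hd1 : d = 1 := hgfix d hdP (by
      have : g * d * g⁻¹ = d := by
        calc g * d * g⁻¹ = τ * (σ * d * σ) * τ := by rw [hgi, hg]; group
          _ = d := by rw [dσ, conj_invol_inv hττ, dτ, inv_inv]
      calc g * d = g * d * g⁻¹ * g := by group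
        _ = d * g := by rw [this])
    have ea : a' = a := inv_mul_eq_one.1 hd1
    subst ea
    have eb : b = b' := mul_left_cancel e'
    subst eb
    rfl
  have hPle : Nat.card (P : Subgroup G) ≤ p ^ 2 := by
    have := Nat.mul_le_mul b1 b2
    have hpos := Nat.card_pos (α := (P : Subgroup G))
    nlinarith
  have hfpf : ∀ v ∈ Subgroup.zpowers g, v ≠ 1 →
      (P : Subgroup G) ⊓ Subgroup.centralizer {v} = ⊥ := by
    intro v hv hv1
    refine (Subgroup.eq_bot_iff_forall _).2 fun x ⟨hx, hxv⟩ => ?_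
    refine h.p_q_fpf hnc hN ?_ (h.exp_p hnc hN P.isPGroup' hx)
      (Subgroup.mem_centralizer_singleton_iff.1 hxv).symm
    refine ((Nat.dvd_prime h.hq).1 ?_).resolve_left fun e => hv1 (orderOf_eq_one_iff.1 e)
    have := Subgroup.orderOf_dvd_natCard _ hv
    rwa [Nat.card_zpowers, hgo] at this
  have hdiv := FrobeniusStruct.card_dvd_sub_one (Subgroup.zpowers_le.2 hgP) hfpf
  rw [Nat.card_zpowers, hgo, le_antisymm hPle hP2] at hdiv
  have hp3 := h.hp.two_le
  have e : p ^ 2 - 1 = (p + 1) * (p - 1) := by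
    rw [← Nat.sq_sub_sq, one_pow]
  rw [e] at hdiv
  rcases h.hq.dvd_mul.1 hdiv with e' | e' <;>
    [have := Nat.le_of_dvd (by omega) e'; have := Nat.le_of_dvd (by omega) e'] <;> omega

end Setup

end Cfsg.Agent.FiveOrbits
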