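import Cfsg.Agent.Lib.FiveOrbits.Dihedral
import Cfsg.Agent.Lib.FiveOrbits.RankOne
import Cfsg.Agent.Lib.CNSimple.Final
import Cfsg.Agent.Lib.CITStruct.Primes
import Cfsg.Agent.Lib.Steiner.PlanePSL
import Cfsg.Agent.Lib.Recog.Simple360
import Cfsg.Agent.S0494
import Mathlib.GroupTheory.GroupAction.Quotient
import Mathlib.GroupTheory.SpecificGroups.Alternating.Simple

/-!
# Simple groups with at most five orbits of the automorphism group
-/

set_option autoImplicit false
set_option linter.style.haveILetI false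
set_option linter.unusedSectionVars false

namespace Cfsg.Agent.FiveOrbits

open Cfsg.Agent.Invol Cfsg.Agent.CNSimple

universe u

variable {G : Type u} [Group G] [Finite G]

/-- The conclusion. -/
def Small (G : Type u) [Group G] : Prop :=
  Nonempty (G ≃* ↥(alternatingGroup (Fin 5))) ∨ Nonempty (G ≃* ↥(alternatingGroup (Fin 6))) ∨
    (∃ (F : Type) (_ : Field F) (_ : Fintype F), (Fintype.card F = 7 ∨ Fintype.card F = 8) ∧
      Nonempty (G ≃* Matrix.ProjectiveSpecialLinearGroup (Fin 2) F))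

/-- The possible element orders number at most five. -/
def FewOrders (G : Type u) [Group G] : Prop :=
  ∀ s : Finset ℕ, (∀ n ∈ s, ∃ g : G, orderOf g = n) → s.card ≤ 5

theorem exists_order_dvd {g : G} {d : ℕ} (hd : d ∣ orderOf g) : ∃ x : G, orderOf x = d := by
  obtain ⟨c, hc⟩ := hd
  have hc0 : c ≠ 0 := fun e => (orderOf_pos g).ne' (by rw [hc, e, mul_zero])
  exact ⟨g ^ c, by rw [orderOf_pow' _ hc0, hc, Nat.gcd_eq_right (dvd_mul_left c d),
    Nat.mul_div_cancel _ (Nat.pos_of_ne_zero hc0)]⟩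

theorem exists_order_of_prime {r : ℕ} (hr : r.Prime) (hd : r ∣ Nat.card G) :
    ∃ x : G, orderOf x = r := by
  haveI := Fact.mk hr
  exact exists_prime_orderOf_dvd_card' r hd

theorem six_false (hf : FewOrders G) {s : Finset ℕ} (h : ∀ n ∈ s, ∃ g : G, orderOf g = n)
    (hc : s.card = 6) : False := by
  have := hf s h
  omega

theorem card_six {a b c d e f : ℕ} (h : [a, b, c, d, e, f].Nodup) :
    ({a, b, c, d, e, f} : Finset ℕ).card = 6 := by
  rw [show ({a, b, c, d, e, f} : Finset ℕ) = [a, b, c, d, e, f].toFinset by simp,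
    List.toFinset_card_of_nodup h]
  rfl

theorem forall_six {P : ℕ → Prop} {a b c d e f : ℕ} (ha : P a) (hb : P b) (hc : P c) (hd : P d)
    (he : P e) (hf : P f) : ∀ n ∈ ({a, b, c, d, e, f} : Finset ℕ), P n := by
  intro n hn
  simp only [Finset.mem_insert, Finset.mem_singleton] at hn
  rcases hn with rfl | rfl | rfl | rfl | rfl | rfl <;> assumption

theorem small_sixty [IsSimpleGroup G] (h : Nat.card G = 60) : Small G :=
  Or.inl (S0494.result h)

variable [IsSimpleGroup G] (hnc : ∃ a b : G, a * b ≠ b * a) (hf : FewOrders G)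
include hnc hf

theorem small_psl_two {F : Type} [Field F] [Fintype F] {n : ℕ} (hn : Fintype.card F = 2 ^ n)
    (e : G ≃* Matrix.ProjectiveSpecialLinearGroup (Fin 2) F) : Small G := by
  haveI : Fact (Nat.Prime 2) := ⟨Nat.prime_two⟩
  have hn0 : n ≠ 0 := fun e' => by
    have := Fintype.one_lt_card (α := F)
    rw [hn, e', pow_zero] at this
    omega
  haveI : CharP F 2 := by
    obtain ⟨r, hr⟩ := CharP.exists F
    haveI := hr
    haveI : Fact r.Prime := ⟨CharP.char_is_prime F r⟩
    obtain ⟨k, hrp, hk⟩ := FiniteField.card F r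
    have hd : r ∣ 2 ^ n := by rw [← hn, hk]; exact dvd_pow_self r k.ne_zero
    exact ((Nat.prime_dvd_prime_iff_eq hrp Nat.prime_two).1 (hrp.dvd_of_dvd_pow hd)) ▸ hr
  have hcard := Dickson.gcd_mul_card_psl (K := F)
  rw [← Nat.card_congr e.toEquiv, Nat.card_eq_fintype_card (α := F), hn] at hcard
  rcases n with _ | _ | _ | _ | n
  · exact absurd rfl hn0
  · exfalso
    norm_num at hcard
    obtain ⟨a, b, hab⟩ := hnc
    haveI := Char.isSolvable_of_card_pq 2 3 Nat.prime_two Nat.prime_three _ G rfl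
      ⟨1, 1, by rw [hcard]; norm_num⟩
    exact hab (IsSimpleGroup.comm_iff_isSolvable.2 inferInstance a b)
  · norm_num at hcard
    exact small_sixty hcard
  · exact Or.inr (Or.inr ⟨F, inferInstance, inferInstance, Or.inr (by rw [hn]; norm_num), ⟨e⟩⟩)
  exfalso
  set m := n + 4 with hm
  have h16 : 2 ^ 4 ≤ 2 ^ m := Nat.pow_le_pow_right two_pos (by omega)
  have he2 : 2 ^ m % 2 = 0 := by rw [show m = m - 1 + 1 by omega, pow_succ]; omega
  obtain ⟨g₁, hg₁⟩ := SL2Orders.exists_orderOf_split (F := F) (by rw [hn]; omega)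
  obtain ⟨g₂, hg₂⟩ := SL2Orders.exists_orderOf_nonsplit (F := F) 2
  obtain ⟨g₀, hg₀⟩ := SL2Orders.exists_orderOf_char (F := F) 2
  have hpred : SL2Orders.halfPred (2 ^ m) = 2 ^ m - 1 := by
    have hg : (2 ^ m - 1).gcd 2 = 1 := Nat.coprime_two_right.2 (Nat.odd_iff.2 (by omega))
    rw [SL2Orders.halfPred, hg, Nat.div_one]
  have hsucc : SL2Orders.halfSucc (2 ^ m) = 2 ^ m + 1 := by
    have hg : (2 ^ m + 1).gcd 2 = 1 := Nat.coprime_two_right.2 (Nat.odd_iff.2 (by omega))
    rw [SL2Orders.halfSucc, hg, Nat.div_one]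
  rw [hn, hpred] at hg₁
  rw [hn, hsucc] at hg₂
  have tr : ∀ {k : ℕ} (x : Matrix.ProjectiveSpecialLinearGroup (Fin 2) F), k ∣ orderOf x →
      ∃ g : G, orderOf g = k := fun x hx =>
    exists_order_dvd (g := e.symm x) (by rwa [MulEquiv.orderOf_eq])
  rcases Nat.even_or_odd m with ⟨k, hk⟩ | ⟨k, hk⟩
  · have hk4 : 4 ≤ 2 ^ k := Nat.pow_le_pow_right two_pos (show 2 ≤ k by omega)
    have hfac : 2 ^ m - 1 = (2 ^ k + 1) * (2 ^ k - 1) := by
      rw [hk, pow_add, ← pow_two, ← Nat.sq_sub_sq, one_pow]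
    have hlt : 2 ^ k + 1 < 2 ^ m - 1 := by
      rw [hfac]; exact lt_mul_right (Nat.succ_pos _) (by omega)
    refine six_false hf (forall_six (a := 1) (b := 2) (c := 2 ^ m - 1) (d := 2 ^ m + 1)
      (e := 2 ^ k + 1) (f := 2 ^ k - 1) ⟨1, orderOf_one⟩ (tr g₀ hg₀.symm.dvd) (tr g₁ hg₁.symm.dvd)
      (tr g₂ hg₂.symm.dvd) (tr g₁ ?_) (tr g₁ ?_)) (card_six ?_)
    · rw [hg₁, hfac]; exact dvd_mul_right _ _
    · rw [hg₁, hfac]; exact dvd_mul_left _ _
    · simp only [List.nodup_cons, List.mem_cons, List.not_mem_nil, not_or, not_false_eq_true,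
        List.nodup_nil, and_true, or_false]
      omega
  · have h3 : 3 ∣ 2 ^ m + 1 := by
      rw [hk, pow_succ, pow_mul]
      refine Nat.dvd_of_mod_eq_zero ?_
      rw [Nat.add_mod, Nat.mul_mod, Nat.pow_mod]
      norm_num
    obtain ⟨c, hc⟩ := h3
    refine six_false hf (forall_six (a := 1) (b := 2) (c := 2 ^ m - 1) (d := 2 ^ m + 1)
      (e := 3) (f := c) ⟨1, orderOf_one⟩ (tr g₀ hg₀.symm.dvd) (tr g₁ hg₁.symm.dvd)
      (tr g₂ hg₂.symm.dvd) (tr g₂ ?_) (tr g₂ ?_)) (card_six ?_)
    · rw [hg₂, hc]; exact dvd_mul_right _ _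
    · rw [hg₂, hc]; exact dvd_mul_left _ _
    · simp only [List.nodup_cons, List.mem_cons, List.not_mem_nil, not_or, not_false_eq_true,
        List.nodup_nil, and_true, or_false]
      omega

theorem small_odd_psl (hG : IsOddPSL G) : Small G := by
  obtain ⟨F, hF, hFt, hq, ⟨e⟩⟩ := hG
  have hcard := Dickson.gcd_mul_card_psl (K := F)
  rw [← Nat.card_congr e.toEquiv, Nat.card_eq_fintype_card (α := F)] at hcard
  rcases hq with h9 | ⟨hpr, k, hk⟩
  · rw [h9] at hcard
    norm_num at hcard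
    haveI : IsSimpleGroup (alternatingGroup (Fin 6)) :=
      alternatingGroup.isSimpleGroup (by simp)
    refine Or.inr (Or.inl (Simple360.nonempty_equiv (by omega) ?_))
    rw [nat_card_alternatingGroup, Nat.card_eq_fintype_card, Fintype.card_fin]
    rfl
  by_cases hsmall : Fintype.card F ≤ 16
  · have hlt : k ≤ 4 := by
      by_contra hk4
      have : 2 ^ 5 ≤ 2 ^ k := Nat.pow_le_pow_right two_pos (by omega)
      omega
    have h2 := hpr.two_le
    have hsol : Fintype.card F ≤ 3 → False := by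
      intro h3
      obtain ⟨a, b, hab⟩ := hnc
      have hq23 : Fintype.card F = 2 ∨ Fintype.card F = 3 := by omega
      haveI : Group.IsSolvable G := by
        refine Char.isSolvable_of_card_pq 2 3 Nat.prime_two Nat.prime_three _ G rfl ?_
        rcases hq23 with e' | e' <;> rw [e'] at hcard <;> norm_num at hcard
        · exact ⟨1, 1, by omega⟩
        · exact ⟨2, 1, by omega⟩
      exact hab (IsSimpleGroup.comm_iff_isSolvable.2 inferInstance a b)
    rcases hk with hk | hk <;> interval_cases k <;> norm_num at hk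
    all_goals first
      | exact (hsol (by omega)).elim
      | exact Or.inr (Or.inr ⟨F, hF, hFt, Or.inl (by omega), ⟨e⟩⟩)
      | (rw [show Fintype.card F = 5 by omega] at hcard; norm_num at hcard
         exact small_sixty (by omega))
      | (exfalso; rw [show Fintype.card F = 9 by omega] at hpr; norm_num at hpr)
      | (exfalso; rw [show Fintype.card F = 15 by omega] at hpr; norm_num at hpr)
  exfalso
  obtain ⟨r, hr⟩ := CharP.exists F
  haveI := hr
  haveI : Fact r.Prime := ⟨CharP.char_is_prime F r⟩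
  obtain ⟨j, hrp, hj⟩ := FiniteField.card F r
  have hrq : r = Fintype.card F :=
    (Nat.prime_dvd_prime_iff_eq hrp hpr).1 (hj ▸ dvd_pow_self r j.ne_zero)
  set q := Fintype.card F with hqd
  obtain ⟨g₁, hg₁⟩ := SL2Orders.exists_orderOf_split (F := F) (by omega)
  obtain ⟨g₂, hg₂⟩ := SL2Orders.exists_orderOf_nonsplit (F := F) r
  obtain ⟨g₀, hg₀⟩ := SL2Orders.exists_orderOf_char (F := F) r
  obtain ⟨m, hm⟩ := hpr.odd_of_ne_two (by omega)
  have ha : SL2Orders.halfPred q = m := by
    rw [SL2Orders.halfPred, hm, Nat.add_sub_cancel,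
      Nat.gcd_eq_right (dvd_mul_right 2 m), Nat.mul_div_cancel_left m two_pos]
  have hb : SL2Orders.halfSucc q = m + 1 := by
    rw [SL2Orders.halfSucc, hm, show 2 * m + 1 + 1 = 2 * (m + 1) by ring,
      Nat.gcd_eq_right (dvd_mul_right 2 _), Nat.mul_div_cancel_left _ two_pos]
  rw [← hqd, ha] at hg₁
  rw [← hqd, hb] at hg₂
  have tr : ∀ {k : ℕ} (x : Matrix.ProjectiveSpecialLinearGroup (Fin 2) F), k ∣ orderOf x →
      ∃ g : G, orderOf g = k := fun x hx =>
    exists_order_dvd (g := e.symm x) (by rwa [MulEquiv.orderOf_eq])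
  obtain ⟨k', rfl⟩ : ∃ k', k = k' + 4 := ⟨k - 4, by
    have : ¬ k < 4 := fun hlt => by
      have : 2 ^ k ≤ 2 ^ 3 := Nat.pow_le_pow_right two_pos (by omega)
      omega
    omega⟩
  have hpow : 2 ^ (k' + 4) = 2 * (8 * 2 ^ k') := by rw [pow_add]; ring
  have hge : 1 ≤ 2 ^ k' := Nat.one_le_two_pow
  rcases hk with hk | hk
  · refine six_false hf (forall_six (a := 1) (b := 2) (c := 4) (d := 8) (e := m + 1) (f := q)
      ⟨1, orderOf_one⟩ (tr g₁ ?_) (tr g₁ ?_) (tr g₁ ?_) (tr g₂ hg₂.symm.dvd)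
      (tr g₀ (by rw [hg₀, hrq]))) (card_six ?_)
    iterate 3
      rw [hg₁, show m = 8 * 2 ^ k' by omega]
      exact dvd_mul_of_dvd_left (by norm_num) _
    simp only [List.nodup_cons, List.mem_cons, List.not_mem_nil, not_or, not_false_eq_true,
      List.nodup_nil, and_true, or_false]
    omega
  · refine six_false hf (forall_six (a := 1) (b := 2) (c := 4) (d := 8) (e := m) (f := q)
      ⟨1, orderOf_one⟩ (tr g₂ ?_) (tr g₂ ?_) (tr g₂ ?_) (tr g₁ hg₁.symm.dvd)
      (tr g₀ (by rw [hg₀, hrq]))) (card_six ?_)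
    iterate 3
      rw [hg₂, show m + 1 = 8 * 2 ^ k' by omega]
      exact dvd_mul_of_dvd_left (by norm_num) _
    simp only [List.nodup_cons, List.mem_cons, List.not_mem_nil, not_or, not_false_eq_true,
      List.nodup_nil, and_true, or_false]
    omega

open Matrix in
theorem not_l34 (hG : IsL34 G) : False := by
  classical
  obtain ⟨F, hF, hFt, hF4, ⟨e⟩⟩ := hG
  letI := Fintype.ofFinite (Projectivization F (Fin 3 → F))
  haveI : CharP F 2 := by
    obtain ⟨r, hr⟩ := CharP.exists F
    haveI := hr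
    haveI : Fact r.Prime := ⟨CharP.char_is_prime F r⟩
    obtain ⟨k, hrp, hk⟩ := FiniteField.card F r
    have hd : r ∣ 2 ^ 2 := by
      rw [show (2 : ℕ) ^ 2 = 4 by norm_num, ← hF4, hk]; exact dvd_pow_self r k.ne_zero
    exact ((Nat.prime_dvd_prime_iff_eq hrp Nat.prime_two).1 (hrp.dvd_of_dvd_pow hd)) ▸ hr
  haveI : Fact (Nat.Prime 2) := ⟨Nat.prime_two⟩
  have hc : Nat.card G = 20160 := (Nat.card_congr e.toEquiv).trans (PlanePSL.card_psl hF4)
  obtain ⟨x, hx⟩ : ∃ x : SpecialLinearGroup (Fin 3) F,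
      (x : Matrix (Fin 3) (Fin 3) F) = !![1, 1, 0; 0, 1, 1; 0, 0, 1] :=
    ⟨⟨_, by rw [det_fin_three]; simp⟩, rfl⟩
  obtain ⟨y, hy⟩ : ∃ y : SpecialLinearGroup (Fin 3) F,
      (y : Matrix (Fin 3) (Fin 3) F) = !![1, 0, 0; 1, 1, 0; 0, 0, 1] :=
    ⟨⟨_, by rw [det_fin_three]; simp⟩, rfl⟩
  have h2 : (2 : F) = 0 := CharTwo.two_eq_zero
  have hx2 : ((x * x : SpecialLinearGroup (Fin 3) F) : Matrix (Fin 3) (Fin 3) F) =
      !![1, 0, 1; 0, 1, 0; 0, 0, 1] := by
    show (x : Matrix (Fin 3) (Fin 3) F) * (x : Matrix (Fin 3) (Fin 3) F) = _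
    rw [hx]
    ext i j
    fin_cases i <;> fin_cases j <;>
      simp [Matrix.mul_apply, Fin.sum_univ_three, one_add_one_eq_two, h2]
  have hx4 : x ^ 4 = 1 := by
    rw [show 4 = 2 + 2 from rfl, pow_add, pow_two]
    apply Subtype.ext
    show ((x * x : SpecialLinearGroup (Fin 3) F) : Matrix (Fin 3) (Fin 3) F) *
      ((x * x : SpecialLinearGroup (Fin 3) F) : Matrix (Fin 3) (Fin 3) F) = 1
    rw [hx2]
    ext i j
    fin_cases i <;> fin_cases j <;>
      simp [Matrix.mul_apply, Fin.sum_univ_three, one_add_one_eq_two, h2]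
  have hord : orderOf (QuotientGroup.mk x : ProjectiveSpecialLinearGroup (Fin 3) F) = 2 ^ (1 + 1) := by
    refine orderOf_eq_prime_pow (fun h1 => ?_) ?_
    · rw [← QuotientGroup.mk_pow, QuotientGroup.eq_one_iff, pow_one] at h1
      have h3 := congrArg (fun M : SpecialLinearGroup (Fin 3) F => (M : Matrix (Fin 3) (Fin 3) F))
        (Subgroup.mem_center_iff.1 h1 y)
      simp only [pow_two] at h3
      change (y : Matrix (Fin 3) (Fin 3) F) *
          ((x * x : SpecialLinearGroup (Fin 3) F) : Matrix (Fin 3) (Fin 3) F) =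
        ((x * x : SpecialLinearGroup (Fin 3) F) : Matrix (Fin 3) (Fin 3) F) *
          (y : Matrix (Fin 3) (Fin 3) F) at h3
      rw [hx2, hy] at h3
      have h4 := congrFun (congrFun h3 1) 2
      simp [Matrix.mul_apply, Fin.sum_univ_three] at h4
    · rw [← QuotientGroup.mk_pow, show (2 : ℕ) ^ (1 + 1) = 4 from rfl, hx4]
      rfl
  refine six_false hf (forall_six (a := 1) (b := 2) (c := 4) (d := 3) (e := 5) (f := 7)
    ⟨1, orderOf_one⟩ (exists_order_of_prime Nat.prime_two (hc ▸ by norm_num))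
    ⟨e.symm (QuotientGroup.mk x), by rw [MulEquiv.orderOf_eq, hord]; rfl⟩
    (exists_order_of_prime Nat.prime_three (hc ▸ by norm_num))
    (exists_order_of_prime (by norm_num) (hc ▸ by norm_num))
    (exists_order_of_prime (by norm_num) (hc ▸ by norm_num))) (card_six (by decide))

theorem small_cit (hcit : CIT G) : Small G := by
  haveI : Fact (Nat.Prime 2) := ⟨Nat.prime_two⟩
  rcases cit_simple hnc hcit with ⟨K, hK⟩ | hO | hL
  · rcases hK.main with ⟨F, i1, i2, n, hn, ⟨e⟩⟩ | hs
    · exact small_psl_two hnc hf hn e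
    · -- four primes, so the Sylow `2`-subgroups are elementary
      obtain ⟨-, m, hm, hcard⟩ := hs
      set Q := 2 ^ (2 * m + 1) with hQ
      set r := 2 ^ (m + 1) with hr
      have hrr : r * r = 2 * Q := by rw [hQ, hr, ← pow_add, ← pow_succ']; congr 1; omega
      have hr4 : 4 ≤ r := Nat.pow_le_pow_right two_pos (show 2 ≤ m + 1 by omega)
      have hrQ : 2 * r ≤ Q := by
        rw [hQ, hr, ← pow_succ']; exact Nat.pow_le_pow_right two_pos (by omega)
      have hQe : Q % 2 = 0 := by rw [hQ, pow_succ]; omega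
      have hre : r % 2 = 0 := by rw [hr, pow_succ]; omega
      have hAB : (Q + r + 1) * (Q + 1 - r) = Q ^ 2 + 1 := by
        rw [show Q + r + 1 = Q + 1 + r by ring, ← Nat.sq_sub_sq, pow_two r, hrr]
        rw [show (Q + 1) ^ 2 = Q ^ 2 + 1 + 2 * Q by ring, Nat.add_sub_cancel]
      obtain ⟨a, ha, had⟩ := Nat.exists_prime_and_dvd (show Q + r + 1 ≠ 1 by omega)
      obtain ⟨b, hb, hbd⟩ := Nat.exists_prime_and_dvd (show Q + 1 - r ≠ 1 by omega)
      obtain ⟨c, hc, hcd⟩ := Nat.exists_prime_and_dvd (show Q - 1 ≠ 1 by omega)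
      have ha2 : a ≠ 2 := fun e => by subst e; omega
      have hb2 : b ≠ 2 := fun e => by subst e; omega
      have hc2 : c ≠ 2 := fun e => by subst e; omega
      have hab : a ≠ b := fun e => by
        subst e
        have h1 := Nat.dvd_sub had hbd
        rw [show Q + r + 1 - (Q + 1 - r) = 2 * r by omega, hr, ← pow_succ'] at h1
        exact ha2 ((Nat.prime_dvd_prime_iff_eq ha Nat.prime_two).1 (ha.dvd_of_dvd_pow h1))
      have key : ∀ d : ℕ, d.Prime → d ≠ 2 → d ∣ Q ^ 2 + 1 → ¬ d ∣ Q - 1 := by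
        intro d hd hd2 h1 h2
        have e : Q ^ 2 + 1 = (Q - 1) * (Q + 1) + 2 := by
          rw [mul_comm, ← Nat.sq_sub_sq]
          have : 1 ^ 2 ≤ Q ^ 2 := Nat.pow_le_pow_left (by omega) 2
          omega
        rw [e, Nat.dvd_add_right (dvd_mul_of_dvd_left h2 _)] at h1
        exact hd2 ((Nat.prime_dvd_prime_iff_eq hd Nat.prime_two).1 h1)
      have hac : a ≠ c := fun e =>
        key a ha ha2 (hAB ▸ dvd_mul_of_dvd_left had _) (e ▸ hcd)
      have hbc : b ≠ c := fun e =>
        key b hb hb2 (hAB ▸ dvd_mul_of_dvd_right hbd _) (e ▸ hcd)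
      have hsq : ∀ x : G, ∀ k : ℕ, orderOf x = 2 ^ k → x * x = 1 := by
        intro x k hk
        rw [← pow_two]
        apply orderOf_dvd_iff_pow_eq_one.1
        rw [hk]
        by_contra hnd
        have h4 : 4 ∣ orderOf x := hk ▸ (pow_dvd_pow 2 (show 2 ≤ k by
          by_contra hk2
          exact hnd ((pow_dvd_pow 2 (show k ≤ 1 by omega)).trans (pow_one 2).dvd)))
        have hpr : ∀ d : ℕ, d.Prime → d ≠ 4 := fun d hd e => by subst e; norm_num at hd
        refine six_false hf (forall_six (a := 1) (b := 2) (c := 4) (d := a) (e := b) (f := c)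
          ⟨1, orderOf_one⟩ (exists_order_dvd ((by norm_num : 2 ∣ 4).trans h4)) (exists_order_dvd h4)
          (exists_order_of_prime ha ?_) (exists_order_of_prime hb ?_) (exists_order_of_prime hc ?_))
          (card_six ?_)
        · rw [hcard, ← hAB]
          exact dvd_mul_of_dvd_left (dvd_mul_of_dvd_right (dvd_mul_of_dvd_left had _) _) _
        · rw [hcard, ← hAB]
          exact dvd_mul_of_dvd_left (dvd_mul_of_dvd_right (dvd_mul_of_dvd_right hbd _) _) _
        · rw [hcard]
          exact dvd_mul_of_dvd_right hcd _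
        · have := ha.ne_one; have := hb.ne_one; have := hc.ne_one
          have := hpr a ha; have := hpr b hb; have := hpr c hc
          simp only [List.nodup_cons, List.mem_cons, List.not_mem_nil, not_or, not_false_eq_true,
            List.nodup_nil, and_true, or_false]
          omega
      -- the good subgroup is a `2`-group
      obtain ⟨τ, hτ⟩ := exists_prime_orderOf_dvd_card' (G := K) 2 hK.even
      obtain ⟨w, hwK, hw1, hKw⟩ := hK.good.center
      obtain ⟨s, hs, hsd⟩ := Nat.exists_prime_and_dvd (fun e => hw1 (orderOf_eq_one_iff.1 e))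
      obtain ⟨i, hi⟩ := hsd
      have hi0 : i ≠ 0 := fun e => (orderOf_pos w).ne' (by rw [hi, e, mul_zero])
      have hz : orderOf (w ^ i) = s := by
        rw [orderOf_pow' _ hi0, hi, Nat.gcd_eq_right (dvd_mul_left i s),
          Nat.mul_div_cancel _ (Nat.pos_of_ne_zero hi0)]
      have hzK : ∀ k ∈ K, k ∈ Ct (w ^ i) := fun k hk => mem_Ct.2
        ((show Commute k w from Subgroup.mem_centralizer_singleton_iff.1 (hKw hk)).pow_right i).eq
      have hs2 : s = 2 := by
        by_contra hs2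
        haveI := Fact.mk hs
        obtain ⟨k, hk⟩ := IsPGroup.iff_orderOf.1 (hcit (τ : G) (by rw [Subgroup.orderOf_coe, hτ]))
          ⟨w ^ i, Subgroup.mem_centralizer_singleton_iff.2 (mem_Ct.1 (hzK τ τ.2)).symm⟩
        rw [Subgroup.orderOf_mk, hz] at hk
        exact hs2 ((Nat.prime_dvd_prime_iff_eq hs Nat.prime_two).1 (hs.dvd_of_dvd_pow hk.dvd))
      have hK2 : ∀ k ∈ K, k * k = 1 := fun k hk => by
        obtain ⟨j, hj⟩ := IsPGroup.iff_orderOf.1 (hcit (w ^ i) (hz.trans hs2)) ⟨k, hzK k hk⟩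
        rw [Subgroup.orderOf_mk] at hj
        exact hsq k j hj
      obtain ⟨F, i1, i2, n, hn, ⟨e⟩⟩ := hK.psl_of_comm fun x hx y hy => by
        have ei : ∀ v ∈ K, v⁻¹ = v := fun v hv => inv_eq_of_mul_eq_one_right (hK2 v hv)
        rw [← ei (x * y) (mul_mem hx hy), mul_inv_rev, ei x hx, ei y hy]
      exact small_psl_two hnc hf hn e
  · exact small_odd_psl hnc hf hO
  · exact (not_l34 hnc hf hL).elim

omit hf in
/-- The classification. -/
theorem small (h5 : Nat.card (MulAction.orbitRel.Quotient (MulAut G) G) ≤ 5) : Small G := by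
  classical
  haveI := Fintype.ofFinite G
  haveI : Finite (MulAut G) := Finite.of_injective (fun e : MulAut G => (e : G → G))
    fun a b e => MulEquiv.ext (congrFun e)
  let O : Finset ℕ := Finset.univ.image fun g : G => orderOf g
  let ord : MulAction.orbitRel.Quotient (MulAut G) G → ↥O :=
    Quotient.lift (fun g => ⟨orderOf g, Finset.mem_image_of_mem _ (Finset.mem_univ g)⟩) (by
      rintro a b hab
      obtain ⟨α, hα⟩ := (MulAction.orbitRel_apply.1 hab : a ∈ MulAction.orbit (MulAut G) b)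
      apply Subtype.ext
      show orderOf a = orderOf b
      rw [← hα]
      exact MulEquiv.orderOf_eq α b)
  have hsurj : Function.Surjective ord := by
    rintro ⟨n, hn⟩
    obtain ⟨g, -, rfl⟩ := Finset.mem_image.1 hn
    exact ⟨Quotient.mk'' g, rfl⟩
  have hO : O.card ≤ 5 := by
    rw [← Fintype.card_coe, ← Nat.card_eq_fintype_card]
    exact (Nat.card_le_card_of_surjective ord hsurj).trans h5
  have hf : FewOrders G := fun s hs => (Finset.card_le_card fun n hn => by
    obtain ⟨g, rfl⟩ := hs n hn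
    exact Finset.mem_image_of_mem _ (Finset.mem_univ g)).trans hO
  by_cases hedge : ∀ r : ℕ, r.Prime → r ≠ 2 → ∀ g : G, orderOf g ≠ 2 * r
  · exact small_cit hnc hf (CITStruct.cit_of_no_edge hedge)
  push Not at hedge
  obtain ⟨r, hr, hr2, g₀, hg₀⟩ := hedge
  -- a third prime
  obtain ⟨q, hq, hqd, hq2, hqr⟩ : ∃ q : ℕ, q.Prime ∧ q ∣ Nat.card G ∧ q ≠ 2 ∧ q ≠ r := by
    by_contra hcon
    push Not at hcon
    obtain ⟨a, b, hab⟩ := hnc
    haveI : Group.IsSolvable G := by
      refine Char.isSolvable_of_card_pq 2 r Nat.prime_two hr _ G rfl ?_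
      have hN0 : Nat.card G ≠ 0 := Nat.card_pos.ne'
      obtain ⟨a', m, hm, he⟩ := Nat.exists_eq_pow_mul_and_not_dvd hN0 2 (by norm_num)
      have hm0 : m ≠ 0 := fun e => hN0 (by rw [he, e, mul_zero])
      refine ⟨a', m.primeFactorsList.length, ?_⟩
      rw [he, ← Nat.eq_prime_pow_of_unique_prime_dvd hm0 fun {s} hs hsm => ?_]
      refine hcon s hs (he ▸ hsm.mul_left _) fun e => ?_
      subst e
      exact hm hsm
    exact hab (IsSimpleGroup.comm_iff_isSolvable.2 inferInstance a b)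
  have hr1 := hr.two_le
  have hq1 := hq.two_le
  have hq2r : q ≠ 2 * r := fun e => Nat.not_prime_mul (by norm_num) hr.ne_one (e ▸ hq)
  set T : Finset ℕ := {1, 2, r, q, 2 * r}
  have hTc : T.card = 5 := by
    rw [show T = [1, 2, r, q, 2 * r].toFinset by simp [T], List.toFinset_card_of_nodup ?_]
    · rfl
    simp only [List.nodup_cons, List.mem_cons, List.not_mem_nil, not_or, not_false_eq_true,
      List.nodup_nil, and_true, or_false]
    omega
  have hTO : T ⊆ O := by
    intro n hn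
    have : ∃ g : G, orderOf g = n := by
      simp only [T, Finset.mem_insert, Finset.mem_singleton] at hn
      rcases hn with rfl | rfl | rfl | rfl | rfl
      · exact ⟨1, orderOf_one⟩
      · exact exists_order_dvd (g := g₀) (hg₀ ▸ dvd_mul_right 2 r)
      · exact exists_order_dvd (g := g₀) (hg₀ ▸ dvd_mul_left n 2)
      · exact exists_order_of_prime hq hqd
      · exact ⟨g₀, hg₀⟩
    obtain ⟨g, rfl⟩ := this
    exact Finset.mem_image_of_mem _ (Finset.mem_univ g)
  have hTeq : T = O := Finset.eq_of_subset_of_card_le hTO (by omega)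
  have hinj : Function.Injective ord := by
    haveI := Fintype.ofFinite (MulAction.orbitRel.Quotient (MulAut G) G)
    refine ((Nat.bijective_iff_surjective_and_card ord).2 ⟨hsurj, le_antisymm ?_ ?_⟩).1
    · rw [Nat.card_eq_fintype_card (α := ↥O), Fintype.card_coe, ← hTeq, hTc]; exact h5
    · exact Nat.card_le_card_of_surjective ord hsurj
  have hset : Setup G r q :=
    { hp := hr, hq := hq, p2 := hr2, q2 := hq2, pq := Ne.symm hqr
      ex := ⟨g₀, hg₀⟩, exq := hqd
      orders := fun g => by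
        have : orderOf g ∈ T := hTeq ▸ Finset.mem_image_of_mem _ (Finset.mem_univ g)
        simpa [T] using this
      aut := fun x y hxy => by
        have := hinj (a₁ := Quotient.mk'' y) (a₂ := Quotient.mk'' x) (Subtype.ext hxy.symm)
        obtain ⟨α, hα⟩ :=
          (MulAction.orbitRel_apply.1 (Quotient.eq''.1 this) : y ∈ MulAction.orbit (MulAut G) x)
        exact ⟨α, hα⟩ }
  haveI : Fact (Nat.Prime 2) := ⟨Nat.prime_two⟩
  by_cases hN : ∀ t : G, orderOf t = 2 → NoOddAt t
  · exact (hset.central_false hnc hN).elim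
  push Not at hN
  obtain ⟨t₀, ht₀, hbad⟩ := hN
  exact small_sixty (hset.card_sixty hnc fun t ht => hset.pclosed ht₀ hbad ht)

end Cfsg.Agent.FiveOrbits
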