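import Cfsg.Agent.Lib.FiveOrbits.Basic
import Mathlib.GroupTheory.Complement

/-!
# Five orbits: a centraliser of an involution with an odd normal subgroup
-/

set_option autoImplicit false
set_option linter.style.haveILetI false
set_option linter.unusedSectionVars false

namespace Cfsg.Agent.FiveOrbits

open Cfsg.Agent.Invol Cfsg.Agent.CNSimple

universe u

variable {G : Type u} [Group G] [Finite G]

/-- The centraliser of `t` has no non-trivial normal subgroup of odd order. -/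
def NoOddAt (t : G) : Prop :=
  ∀ N : Subgroup G, N ≤ Ct t → Ct t ≤ Subgroup.normalizer (N : Set G) → Odd (Nat.card N) → N = ⊥

/-- The solutions of `x ^ p = 1` centralising `t` are closed under multiplication. -/
def PClosed (p : ℕ) (t : G) : Prop :=
  ∀ x ∈ Ct t, ∀ y ∈ Ct t, x ^ p = 1 → y ^ p = 1 → (x * y) ^ p = 1

/-- The solutions of `x ^ p = 1` centralising `t`. -/
def T {p : ℕ} {t : G} (hc : PClosed p t) : Subgroup G where
  carrier := {x | x ∈ Ct t ∧ x ^ p = 1}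
  one_mem' := ⟨one_mem _, one_pow p⟩
  mul_mem' := fun ⟨ha, ha'⟩ ⟨hb, hb'⟩ => ⟨mul_mem ha hb, hc _ ha _ hb ha' hb'⟩
  inv_mem' := fun ⟨ha, ha'⟩ => ⟨inv_mem ha, by rw [inv_pow, ha', inv_one]⟩

theorem mem_T {p : ℕ} {t x : G} (hc : PClosed p t) : x ∈ T hc ↔ x ∈ Ct t ∧ x ^ p = 1 := Iff.rfl

namespace Setup

variable {p q : ℕ} (h : Setup G p q)
include h

theorem odd_p : Odd p := h.hp.odd_of_ne_two h.p2

theorem mem_T_iff_order {t x : G} (hc : PClosed p t) :
    x ∈ T hc ↔ x ∈ Ct t ∧ (x = 1 ∨ orderOf x = p) := by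
  rw [mem_T]
  refine and_congr_right fun _ => ⟨fun e => ?_, ?_⟩
  · exact (em (x = 1)).imp id fun hx => h.order_prime e hx
  · rintro (rfl | e)
    · exact one_pow p
    · rw [← e]; exact pow_orderOf_eq_one x

theorem order_mul {t z : G} (ht : orderOf t = 2) (hz : orderOf z = p) (hzt : z ∈ Ct t) :
    orderOf (t * z) = 2 * p := by
  rw [(show Commute t z from (mem_Ct.1 hzt).symm).orderOf_mul_eq_mul_orderOf_of_coprime
    (by rw [ht, hz]; exact (Nat.coprime_primes Nat.prime_two h.hp).2 (Ne.symm h.p2)), ht, hz]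

/-- The automorphisms fixing an involution permute the elements of order `p` centralising it
transitively. -/
theorem aut_fix {t z z' : G} (ht : orderOf t = 2) (hz : orderOf z = p) (hzt : z ∈ Ct t)
    (hz' : orderOf z' = p) (hzt' : z' ∈ Ct t) : ∃ α : MulAut G, α t = t ∧ α z = z' := by
  obtain ⟨α, hα⟩ := h.aut _ _ ((h.order_mul ht hz hzt).trans (h.order_mul ht hz' hzt').symm)
  have key : ∀ w : G, orderOf w = p → w ∈ Ct t → (t * w) ^ p = t := by
    intro w hw hwt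
    obtain ⟨k, hk⟩ := h.odd_p
    have e : w ^ p = 1 := by rw [← hw]; exact pow_orderOf_eq_one w
    rw [(show Commute t w from (mem_Ct.1 hwt).symm).mul_pow, e, mul_one, hk, pow_succ, pow_mul,
      pow_two, mul_self ht, one_pow, one_mul]
  have ht' : α t = t := by
    have := congrArg (· ^ p) hα
    simp only [← map_pow, key z hz hzt, key z' hz' hzt'] at this
    exact this
  refine ⟨α, ht', mul_left_cancel (a := t) ?_⟩
  rw [← hα, map_mul, ht']

theorem exists_mem {t : G} (ht : orderOf t = 2) : ∃ z : G, orderOf z = p ∧ z ∈ Ct t := by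
  obtain ⟨g, hg⟩ := h.ex
  have h1 : orderOf (g ^ p) = 2 := by
    rw [orderOf_pow' _ h.hp.ne_zero, hg, Nat.gcd_eq_right (dvd_mul_left p 2),
      Nat.mul_div_cancel _ h.hp.pos]
  obtain ⟨α, hα⟩ := h.aut _ t (h1.trans ht.symm)
  refine ⟨α (g ^ 2), ?_, ?_⟩
  · rw [MulEquiv.orderOf_eq, orderOf_pow' _ two_ne_zero, hg, Nat.gcd_eq_right (dvd_mul_right 2 p),
      Nat.mul_div_cancel_left _ two_pos]
  · rw [← hα, mem_Ct_map, mem_Ct]
    exact ((Commute.refl g).pow_pow 2 p).eq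

/-- A non-trivial odd normal subgroup of one centraliser makes them all `p`-closed. -/
theorem pclosed {t₀ : G} (ht₀ : orderOf t₀ = 2) (hbad : ¬ NoOddAt t₀) {t : G} (ht : orderOf t = 2) :
    PClosed p t := by
  classical
  haveI := Fact.mk h.hp
  simp only [NoOddAt, not_forall] at hbad
  obtain ⟨N, hN, hNn, hNo, hN1⟩ := hbad
  have hNord : ∀ a ∈ N, a ^ p = 1 := by
    intro a ha
    apply orderOf_dvd_iff_pow_eq_one.1
    have hd := h.dvd_two_mul (Or.inl ht₀) (mem_Ct.1 (hN ha))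
    have ho : Odd (orderOf a) := hNo.of_dvd_nat (Subgroup.orderOf_dvd_natCard N ha)
    exact (Nat.coprime_two_right.2 ho).dvd_of_dvd_mul_left hd
  obtain ⟨⟨a, ha⟩, ha1⟩ := Subgroup.ne_bot_iff_exists_ne_one.1 hN1
  have hao : orderOf a = p := h.order_prime (hNord a ha) fun e => ha1 (Subtype.ext e)
  obtain ⟨Q⟩ : Nonempty (Sylow p (Ct t₀)) := inferInstance
  have hQ : ∀ x ∈ Ct t₀, x ^ p = 1 → ∃ c : Ct t₀, c ∈ (Q : Subgroup (Ct t₀)) ∧ (c : G) = x := by
    intro x hx hxp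
    rcases em (x = 1) with rfl | hx1
    · exact ⟨1, one_mem _, rfl⟩
    obtain ⟨α, hαt, hαa⟩ := h.aut_fix ht₀ hao (hN ha) (h.order_prime hxp hx1) hx
    set N' : Subgroup G := N.map α.toMonoidHom with hN'
    have hsub : N' ≤ Ct t₀ := by
      rintro _ ⟨b, hb, rfl⟩
      exact hαt ▸ (mem_Ct_map α).2 (hN hb)
    have hnorm : (N'.subgroupOf (Ct t₀)).Normal := by
      refine ⟨fun c hc g => ?_⟩
      obtain ⟨b, hb, hbc⟩ := hc
      have hg : α.symm g ∈ Ct t₀ := by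
        rw [← mem_Ct_map α, hαt, α.apply_symm_apply]
        exact g.2
      refine ⟨α.symm g * b * (α.symm g)⁻¹, (Subgroup.mem_normalizer_iff.1 (hNn hg) b).1 hb, ?_⟩
      show α (α.symm g * b * (α.symm g)⁻¹) = (g : G) * c * (g : G)⁻¹
      rw [map_mul, map_mul, map_inv, α.apply_symm_apply]
      exact congrArg (fun y => (g : G) * y * (g : G)⁻¹) hbc
    have hpg : IsPGroup p (N'.subgroupOf (Ct t₀)) := by
      rintro ⟨⟨c, hc⟩, b, hb, hbc⟩
      refine ⟨1, Subtype.ext (Subtype.ext ?_)⟩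
      show c ^ p ^ 1 = 1
      rw [pow_one, ← show α b = c from hbc, ← map_pow, hNord b hb, map_one]
    haveI := hnorm
    refine ⟨⟨x, hx⟩, ?_, rfl⟩
    exact (le_sup_right.trans (Q.3 (Q.isPGroup'.to_sup_of_normal_right hpg) le_sup_left).le)
      (⟨a, ha, hαa⟩ : x ∈ N')
  have h0 : PClosed p t₀ := by
    intro x hx y hy hxp hyp
    obtain ⟨c, hcQ, rfl⟩ := hQ x hx hxp
    obtain ⟨d, hdQ, rfl⟩ := hQ y hy hyp
    apply orderOf_dvd_iff_pow_eq_one.1
    obtain ⟨k, hk⟩ := IsPGroup.iff_orderOf.1 Q.isPGroup' ⟨c * d, mul_mem hcQ hdQ⟩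
    rw [Subgroup.orderOf_mk, ← Subgroup.orderOf_coe] at hk
    have hd := h.dvd_two_mul (Or.inl ht₀) (mem_Ct.1 (mul_mem hx hy))
    push_cast at hk
    rw [hk] at hd ⊢
    exact (((Nat.coprime_primes h.hp Nat.prime_two).2 h.p2).pow_left k).dvd_of_dvd_mul_left hd
  obtain ⟨β, hβ⟩ := h.aut t₀ t (ht₀.trans ht.symm)
  intro x hx y hy hxp hyp
  obtain ⟨x', rfl⟩ := β.surjective x
  obtain ⟨y', rfl⟩ := β.surjective y
  rw [← hβ, mem_Ct_map] at hx hy
  rw [← map_pow, map_eq_one_iff β β.injective] at hxp hyp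
  rw [← map_mul, ← map_pow, h0 x' hx y' hy hxp hyp, map_one]

variable (hc : ∀ t : G, orderOf t = 2 → PClosed p t)
include hc

theorem isPGroup_T {t : G} (ht : orderOf t = 2) : IsPGroup p (T (hc t ht)) := fun x =>
  ⟨1, Subtype.ext (by rw [pow_one]; exact x.2.2)⟩

theorem odd_T {t : G} (ht : orderOf t = 2) : Odd (Nat.card (T (hc t ht))) := by
  haveI := Fact.mk h.hp
  obtain ⟨k, hk⟩ := IsPGroup.iff_card.1 (h.isPGroup_T hc ht)
  exact hk ▸ h.odd_p.pow

theorem T_comm {t : G} (ht : orderOf t = 2) {x y : G} (hx : x ∈ T (hc t ht))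
    (hy : y ∈ T (hc t ht)) : x * y = y * x := by
  haveI := Fact.mk h.hp
  rcases em (x = 1) with rfl | hx1
  · rw [one_mul, mul_one]
  set X := T (hc t ht) with hX
  haveI : Nontrivial X := (Subgroup.nontrivial_iff_ne_bot X).2 fun e =>
    hx1 (Subgroup.mem_bot.1 (e ▸ hx))
  haveI := (h.isPGroup_T hc ht).center_nontrivial
  obtain ⟨⟨⟨c, hcX⟩, hcc⟩, hc1⟩ := exists_ne (1 : Subgroup.center X)
  have hco : orderOf c = p := ((h.mem_T_iff_order (hc t ht)).1 hcX).2.resolve_left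
    fun e => hc1 (Subtype.ext (Subtype.ext e))
  have hxo : orderOf x = p := h.order_prime hx.2 hx1
  obtain ⟨α, hαt, hαc⟩ := h.aut_fix ht hco hcX.1 hxo hx.1
  obtain ⟨y', rfl⟩ := α.surjective y
  have hy' : y' ∈ X := by
    obtain ⟨h1, h2⟩ := hy
    refine ⟨(mem_Ct_map α).1 (by rwa [hαt]), ?_⟩
    rwa [← map_pow, map_eq_one_iff α α.injective] at h2
  rw [← hαc, ← map_mul, ← map_mul]
  exact congrArg α (congrArg Subtype.val (Subgroup.mem_center_iff.1 hcc ⟨y', hy'⟩)).symm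

theorem conj_T {t g x : G} (ht : orderOf t = 2) (hg : g ∈ Ct t) (hx : x ∈ T (hc t ht)) :
    g * x * g⁻¹ ∈ T (hc t ht) :=
  ⟨mul_mem (mul_mem hg hx.1) (inv_mem hg), by rw [_root_.conj_pow, hx.2]; group⟩

/-- The centraliser of an involution is the product of its `p`-part and a Sylow `2`-subgroup. -/
theorem decompose {t : G} (ht : orderOf t = 2) (S : Sylow 2 G) (hS : (S : Subgroup G) ≤ Ct t)
    {g : G} (hg : g ∈ Ct t) : ∃ x ∈ T (hc t ht), ∃ s ∈ (S : Subgroup G), g = x * s := by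
  classical
  haveI : Fact (Nat.Prime 2) := ⟨Nat.prime_two⟩
  haveI := Fact.mk h.hp
  set X := T (hc t ht) with hX
  let f : X × (S : Subgroup G) → Ct t := fun v => ⟨v.1 * v.2, mul_mem v.1.2.1 (hS v.2.2)⟩
  have hinj : Function.Injective f := by
    rintro ⟨x, s⟩ ⟨x', s'⟩ e
    have e' : (x : G) * s = x' * s' := congrArg Subtype.val e
    have h1 : (x' : G)⁻¹ * x = s' * (s : G)⁻¹ := by
      rw [inv_mul_eq_iff_eq_mul, ← mul_assoc, ← e', mul_inv_cancel_right]
    have h2 : (x' : G)⁻¹ * x = 1 :=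
      Invol.eq_one_of_sq_of_odd ((h.odd_T hc ht).of_dvd_nat
          (Subgroup.orderOf_dvd_natCard X (mul_mem (inv_mem x'.2) x.2)))
        (by rw [pow_two, h1]; exact h.two_group_sq S.isPGroup' (mul_mem s'.2 (inv_mem s.2)))
    rw [h2] at h1
    exact Prod.ext (Subtype.ext (inv_mul_eq_one.1 h2).symm)
      (Subtype.ext (mul_inv_eq_one.1 h1.symm).symm)
  have hcard : Nat.card (Ct t) ≤ Nat.card (X × (S : Subgroup G)) := by
    rw [Nat.card_prod]
    obtain ⟨a, b, hab⟩ := h.card_Ct_pq (x := t) (Or.inl ht)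
    have hcop : ∀ i j, Nat.Coprime (2 ^ i) (p ^ j) := fun i j =>
      ((Nat.coprime_primes Nat.prime_two h.hp).2 (Ne.symm h.p2)).pow i j
    obtain ⟨Q⟩ : Nonempty (Sylow p (Ct t)) := inferInstance
    have hQ : p ^ b ∣ Nat.card X := by
      have hdQ : p ^ b ∣ Nat.card Q := by
        rw [Q.card_eq_multiplicity]
        exact pow_dvd_pow p ((h.hp.pow_dvd_iff_le_factorization Nat.card_pos.ne').1
          (hab ▸ dvd_mul_left _ _))
      have hle : (Q : Subgroup (Ct t)).map (Ct t).subtype ≤ X := by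
        rintro _ ⟨⟨c, hc'⟩, hcQ, rfl⟩
        refine ⟨hc', orderOf_dvd_iff_pow_eq_one.1 ?_⟩
        obtain ⟨k, hk⟩ := IsPGroup.iff_orderOf.1 Q.isPGroup' ⟨⟨c, hc'⟩, hcQ⟩
        rw [Subgroup.orderOf_mk, Subgroup.orderOf_mk] at hk
        show orderOf c ∣ p
        have hd := h.dvd_two_mul (Or.inl ht) (mem_Ct.1 hc')
        rw [hk] at hd ⊢
        exact (((Nat.coprime_primes h.hp Nat.prime_two).2 h.p2).pow_left k).dvd_of_dvd_mul_left hd
      have h1 := Subgroup.card_dvd_of_le hle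
      rw [Subgroup.card_map_of_injective (Ct t).subtype_injective] at h1
      exact hdQ.trans h1
    have h2a : 2 ^ a ∣ Nat.card (S : Subgroup G) := by
      have hd : 2 ^ a ∣ Nat.card G :=
        (Dvd.intro _ hab.symm).trans (Subgroup.card_subgroup_dvd_card _)
      rw [S.card_eq_multiplicity]
      exact pow_dvd_pow 2 ((Nat.prime_two.pow_dvd_iff_le_factorization Nat.card_pos.ne').1 hd)
    rw [hab, mul_comm (Nat.card X)]
    exact Nat.mul_le_mul (Nat.le_of_dvd Nat.card_pos h2a) (Nat.le_of_dvd Nat.card_pos hQ)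
  haveI := Fintype.ofFinite X
  obtain ⟨⟨x, s⟩, hxs⟩ : ∃ v, f v = ⟨g, hg⟩ := by
    refine ((Nat.bijective_iff_injective_and_card f).2 ⟨hinj, le_antisymm ?_ hcard⟩).2 _
    exact Nat.card_le_card_of_injective f hinj
  exact ⟨x, x.2, s, s.2, (congrArg Subtype.val hxs).symm⟩

/-- The part of a Sylow `2`-subgroup of `C(t)` centralising a `p`-element of `C(t)`. -/
theorem card_inf {t z : G} (ht : orderOf t = 2) (S : Sylow 2 G) (htS : t ∈ (S : Subgroup G))
    (hS : (S : Subgroup G) ≤ Ct t) (hz : z ∈ T (hc t ht)) :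
    Nat.card ((S : Subgroup G) ⊓ Ct z : Subgroup G) = 2 ^ (Nat.card (Ct z)).factorization 2 := by
  classical
  haveI : Fact (Nat.Prime 2) := ⟨Nat.prime_two⟩
  set E : Subgroup G := (S : Subgroup G) ⊓ Ct z with hE
  set X := T (hc t ht) with hX
  have hXz : X ≤ Ct z := fun x hx => mem_Ct.2 (h.T_comm hc ht hx hz)
  obtain ⟨Q, hQ⟩ := ((S.isPGroup'.to_le (inf_le_left : E ≤ _)).comap_of_injective (Ct z).subtype
    (Ct z).subtype_injective).exists_le_sylow
  rw [← Q.card_eq_multiplicity]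
  set Q' : Subgroup G := (Q : Subgroup (Ct z)).map (Ct z).subtype with hQ'
  have hEQ : E ≤ Q' := fun a ha => ⟨⟨a, ha.2⟩, hQ (show (⟨a, ha.2⟩ : Ct z) ∈ _ from ha), rfl⟩
  have hQ'p : IsPGroup 2 Q' := Q.isPGroup'.map _
  have hQ'z : Q' ≤ Ct z := Subgroup.map_subtype_le _
  rw [← Subgroup.card_map_of_injective (Ct z).subtype_injective]
  refine le_antisymm (Subgroup.card_le_of_le hEQ) ?_
  have htQ : t ∈ Q' := hEQ ⟨htS, mem_Ct.2 (mem_Ct.1 hz.1).symm⟩
  have hdec : ∀ g : Q', ∃ s : E, ∃ x ∈ X, (g : G) = x * s := by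
    intro g
    have hgt : (g : G) ∈ Ct t := mem_Ct.2 (h.two_group_comm hQ'p g.2 htQ)
    obtain ⟨x, hx, s, hs, e⟩ := h.decompose hc ht S hS hgt
    refine ⟨⟨s, hs, ?_⟩, x, hx, e⟩
    show s ∈ Ct z
    rw [show s = x⁻¹ * g by rw [e, inv_mul_cancel_left]]
    exact mul_mem (inv_mem (hXz hx)) (hQ'z g.2)
  choose f hf using hdec
  refine Nat.card_le_card_of_injective f fun g g' e => ?_
  obtain ⟨x, hx, ex⟩ := hf g
  obtain ⟨x', hx', ex'⟩ := hf g'
  refine Subtype.ext (mul_inv_eq_one.1 (Invol.eq_one_of_sq_of_odd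
    ((h.odd_T hc ht).of_dvd_nat (Subgroup.orderOf_dvd_natCard X ?_)) ?_))
  · rw [ex, ex', e, show x * (f g' : G) * (x' * (f g' : G))⁻¹ = x * x'⁻¹ by group]
    exact mul_mem hx (inv_mem hx')
  · rw [pow_two]
    exact h.two_group_sq hQ'p (mul_mem g.2 (inv_mem g'.2))

theorem card_inf_eq {t t' z z' : G} (ht : orderOf t = 2) (ht' : orderOf t' = 2) (S S' : Sylow 2 G)
    (htS : t ∈ (S : Subgroup G)) (hS : (S : Subgroup G) ≤ Ct t)
    (htS' : t' ∈ (S' : Subgroup G)) (hS' : (S' : Subgroup G) ≤ Ct t')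
    (hz : z ∈ T (hc t ht)) (hz1 : z ≠ 1) (hz' : z' ∈ T (hc t' ht')) (hz1' : z' ≠ 1) :
    Nat.card ((S : Subgroup G) ⊓ Ct z : Subgroup G) =
      Nat.card ((S' : Subgroup G) ⊓ Ct z' : Subgroup G) := by
  rw [h.card_inf hc ht S htS hS hz, h.card_inf hc ht' S' htS' hS' hz']
  obtain ⟨α, hα⟩ := h.aut z z'
    ((h.order_prime hz.2 hz1).trans (h.order_prime hz'.2 hz1').symm)
  rw [← hα, card_Ct_map]

variable [IsSimpleGroup G] (hnc : ∃ a b : G, a * b ≠ b * a)
include hnc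

/-- Outside its kernel a Sylow `2`-subgroup of `C(t)` inverts the `p`-elements. -/
theorem invert {t z s : G} (ht : orderOf t = 2) (S : Sylow 2 G) (htS : t ∈ (S : Subgroup G))
    (hS : (S : Subgroup G) ≤ Ct t) (hz : z ∈ T (hc t ht)) (hs : s ∈ (S : Subgroup G))
    (hsz : s ∉ Ct z) : s * z * s⁻¹ = z⁻¹ := by
  have hz1 : z ≠ 1 := fun e => hsz (mem_Ct.2 (by rw [e, mul_one, one_mul]))
  have hs2 := h.two_group_sq S.isPGroup' hs
  have hzs : s * z * s⁻¹ ∈ T (hc t ht) := h.conj_T hc ht (hS hs) hz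
  set w := z * (s * z * s⁻¹) with hw
  have hwT : w ∈ T (hc t ht) := mul_mem hz hzs
  by_contra hne
  have hw1 : w ≠ 1 := fun e => hne (eq_inv_of_mul_eq_one_right e)
  have hlt : ((S : Subgroup G) ⊓ Ct z) < (S : Subgroup G) ⊓ Ct w := by
    refine lt_of_le_of_ne (fun a ⟨ha, haz⟩ => ⟨ha, ?_⟩) fun e => hsz ?_
    · have h1 : Commute a z := mem_Ct.1 haz
      have h2 : Commute a s := h.two_group_comm S.isPGroup' ha hs
      exact mem_Ct.2 (h1.mul_right ((h2.mul_right h1).mul_right h2.inv_right)).eq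
    · have hsw : s ∈ (S : Subgroup G) ⊓ Ct w := ⟨hs, mem_Ct.2 (by
        rw [hw, h.T_comm hc ht hz hzs, inv_eq_of_mul_eq_one_right hs2]
        calc s * (s * z * s * z) = s * s * z * s * z := by group
          _ = z * s * z := by rw [hs2, one_mul]
          _ = s * z * s * z * s := by
            have e := h.T_comm hc ht hz hzs
            rw [inv_eq_of_mul_eq_one_right hs2] at e
            rw [← e, show z * (s * z * s) * s = z * s * z * (s * s) by group, hs2, mul_one])⟩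
      exact (e ▸ hsw).2
  have h2 := h.card_inf_eq hc ht ht S S htS hS htS hS hz hz1 hwT hw1
  haveI := Fintype.ofFinite G
  exact hlt.ne (Subgroup.eq_of_le_of_card_ge hlt.le h2.ge)

theorem inf_eq {t z w : G} (ht : orderOf t = 2) (S : Sylow 2 G) (htS : t ∈ (S : Subgroup G))
    (hS : (S : Subgroup G) ≤ Ct t) (hz : z ∈ T (hc t ht)) (hz1 : z ≠ 1) (hw : w ∈ T (hc t ht))
    (hw1 : w ≠ 1) : (S : Subgroup G) ⊓ Ct z = (S : Subgroup G) ⊓ Ct w := by
  refine Subgroup.eq_of_le_of_card_ge (fun s ⟨hs, hsz⟩ => ⟨hs, ?_⟩)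
    (h.card_inf_eq hc ht ht S S htS hS htS hS hz hz1 hw hw1).ge
  by_contra hsw
  have e1 := h.invert hc hnc ht S htS hS hw hs hsw
  have e2 : s * z * s⁻¹ = z := mul_inv_eq_iff_eq_mul.2 (mem_Ct.1 hsz)
  have e3 : s * (z * w) * s⁻¹ = z * w⁻¹ := by
    rw [show s * (z * w) * s⁻¹ = (s * z * s⁻¹) * (s * w * s⁻¹) by group, e1, e2]
  have hzw : z * w ∈ T (hc t ht) := mul_mem hz hw
  have hodd : ∀ {x : G}, x ∈ T (hc t ht) → x * x = 1 → x = 1 := fun {x} hx e =>
    Invol.eq_one_of_sq_of_odd ((h.odd_T hc ht).of_dvd_nat (Subgroup.orderOf_dvd_natCard _ hx))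
      (by rw [pow_two]; exact e)
  by_cases hsc : s ∈ Ct (z * w)
  · rw [mul_inv_eq_iff_eq_mul.2 (mem_Ct.1 hsc)] at e3
    exact hw1 (hodd hw (by nth_rewrite 2 [mul_left_cancel e3]; exact mul_inv_cancel w))
  · rw [h.invert hc hnc ht S htS hS hzw hs hsc, mul_inv_rev,
      h.T_comm hc ht (inv_mem hw) (inv_mem hz)] at e3
    exact hz1 (hodd hz (by nth_rewrite 2 [← mul_right_cancel e3]; exact mul_inv_cancel z))

/-- Only the Klein case remains: `C(t)` is a generalised dihedral group. -/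
theorem klein {t : G} (ht : orderOf t = 2) (S : Sylow 2 G) (htS : t ∈ (S : Subgroup G))
    (hS : (S : Subgroup G) ≤ Ct t) :
    Nat.card (S : Subgroup G) = 4 ∧ ∃ z ∈ T (hc t ht), z ≠ 1 ∧
      ∀ s ∈ (S : Subgroup G), s ∈ Ct z → s = 1 ∨ s = t := by
  classical
  haveI : Fact (Nat.Prime 2) := ⟨Nat.prime_two⟩
  haveI := Fact.mk h.hp
  obtain ⟨z, hzo, hzt⟩ := h.exists_mem ht
  have hz : z ∈ T (hc t ht) := (h.mem_T_iff_order _).2 ⟨hzt, Or.inr hzo⟩
  have hz1 : z ≠ 1 := fun e => by rw [e, orderOf_one] at hzo; exact h.hp.ne_one hzo.symm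
  set E : Subgroup G := (S : Subgroup G) ⊓ Ct z with hE
  have hES : E ≤ (S : Subgroup G) := inf_le_left
  have hne : ∃ a ∈ (S : Subgroup G), a ∉ Ct z := by
    by_contra hcon
    push Not at hcon
    exact h.not_full hnc hzo S (Subgroup.card_dvd_of_le hcon)
  obtain ⟨a, haS, haz⟩ := hne
  have hhalf : ∀ b ∈ (S : Subgroup G), b ∉ Ct z → a * b ∈ Ct z := by
    intro b hb hbz
    have e1 := h.invert hc hnc ht S htS hS hz haS haz
    have e2 := h.invert hc hnc ht S htS hS hz hb hbz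
    refine mem_Ct.2 (mul_inv_eq_iff_eq_mul.1 ?_)
    rw [show a * b * z * (a * b)⁻¹ = a * (b * z * b⁻¹) * a⁻¹ by group, e2,
      show a * z⁻¹ * a⁻¹ = (a * z * a⁻¹)⁻¹ by group, e1, inv_inv]
  have hidx : Nat.card (S : Subgroup G) = 2 * Nat.card E := by
    have h2 : (E.subgroupOf (S : Subgroup G)).index = 2 := by
      rw [Subgroup.index_eq_two_iff]
      refine ⟨⟨a, haS⟩, fun b => ?_⟩
      by_cases hb : (b : G) ∈ Ct z
      · refine Or.inr ⟨⟨b.2, hb⟩, fun e => haz ?_⟩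
        have e' : (b : G) * a ∈ Ct z := e.2
        simpa using mul_mem (inv_mem hb) e'
      · refine Or.inl ⟨⟨mul_mem b.2 haS, ?_⟩, fun e => hb e.2⟩
        show (b : G) * a ∈ Ct z
        rw [h.two_group_comm S.isPGroup' b.2 haS]
        exact hhalf b b.2 hb
    rw [← Subgroup.card_mul_index (E.subgroupOf (S : Subgroup G)), h2,
      Nat.card_congr (Subgroup.subgroupOfEquivOfLe hES).toEquiv, mul_comm]
  -- every other element of `E` has the same kernel
  have hsame : ∀ u ∈ E, ∀ hu : orderOf u = 2, T (hc u hu) = T (hc t ht) := by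
    intro u huE hu
    obtain ⟨α, hα⟩ := h.aut t u (ht.trans hu.symm)
    have hle : T (hc t ht) ≤ T (hc u hu) := fun x hx => by
      refine ⟨mem_Ct.2 ?_, hx.2⟩
      rcases em (x = 1) with rfl | hx1
      · rw [one_mul, mul_one]
      · exact (mem_Ct.1 ((h.inf_eq hc hnc ht S htS hS hz hz1 hx hx1).le huE).2).symm
    refine (Subgroup.eq_of_le_of_card_ge hle (le_of_eq ?_)).symm
    refine Nat.card_congr (α.toEquiv.subtypeEquiv fun x => ?_).symm
    show x ∈ T (hc t ht) ↔ α x ∈ T (hc u hu)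
    rw [mem_T, mem_T, ← map_pow, map_eq_one_iff α α.injective, ← hα, mem_Ct_map]
  have ha2 : orderOf a = 2 := order_two_of_sq (h.two_group_sq S.isPGroup' haS) fun e =>
    haz (e ▸ one_mem _)
  have hSa : (S : Subgroup G) ≤ Ct a := fun b hb => mem_Ct.2 (h.two_group_comm S.isPGroup' hb haS)
  obtain ⟨w, hwo, hwa⟩ := h.exists_mem ha2
  have hw : w ∈ T (hc a ha2) := (h.mem_T_iff_order _).2 ⟨hwa, Or.inr hwo⟩
  have hw1 : w ≠ 1 := fun e => by rw [e, orderOf_one] at hwo; exact h.hp.ne_one hwo.symm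
  set E' : Subgroup G := (S : Subgroup G) ⊓ Ct w with hE'
  have haE' : a ∈ E' := ⟨haS, mem_Ct.2 (mem_Ct.1 hwa).symm⟩
  have hdisj : ∀ u ∈ E, u ∈ E' → u = 1 := by
    intro u huE huE'
    by_contra hu1
    have hu : orderOf u = 2 := order_two_of_sq (h.two_group_sq S.isPGroup' huE.1) hu1
    have hwu : w ∈ T (hc u hu) := ⟨mem_Ct.2 (mem_Ct.1 huE'.2).symm, hw.2⟩
    rw [hsame u huE hu] at hwu
    exact haz ((h.inf_eq hc hnc ht S htS hS hz hz1 hwu hw1).ge haE').2
  have hcardE' : Nat.card E' = Nat.card E :=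
    h.card_inf_eq hc ha2 ht S S haS hSa htS hS hw hw1 hz hz1
  have hprod : Nat.card E * Nat.card E' ≤ Nat.card (S : Subgroup G) := by
    rw [← Nat.card_prod]
    refine Nat.card_le_card_of_injective
      (fun v => ⟨(v.1 : G) * v.2, mul_mem v.1.2.1 v.2.2.1⟩) ?_
    rintro ⟨x, y⟩ ⟨x', y'⟩ e
    have e' : (x : G) * y = x' * y' := congrArg Subtype.val e
    have h1 : (x' : G)⁻¹ * x = y' * (y : G)⁻¹ := by
      rw [inv_mul_eq_iff_eq_mul, ← mul_assoc, ← e', mul_inv_cancel_right]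
    have h2 : (x' : G)⁻¹ * x = 1 :=
      hdisj _ (mul_mem (inv_mem x'.2) x.2) (h1 ▸ mul_mem y'.2 (inv_mem y.2))
    rw [h2] at h1
    exact Prod.ext (Subtype.ext (inv_mul_eq_one.1 h2).symm)
      (Subtype.ext (mul_inv_eq_one.1 h1.symm).symm)
  have htE : t ∈ E := ⟨htS, mem_Ct.2 (mem_Ct.1 hzt).symm⟩
  have hE2 : 2 ≤ Nat.card E := by
    have := Subgroup.orderOf_dvd_natCard E htE
    rw [ht] at this
    exact Nat.le_of_dvd Nat.card_pos this
  rw [hcardE', hidx] at hprod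
  have hEeq : Nat.card E = 2 := le_antisymm (Nat.le_of_mul_le_mul_right hprod Nat.card_pos) hE2
  refine ⟨by rw [hidx, hEeq], z, hz, hz1, fun s hs hsz => ?_⟩
  obtain ⟨u, v, -, huv⟩ := Nat.card_eq_two_iff.1 hEeq
  have key : ∀ x : E, (x : G) = 1 ∨ (x : G) = t := by
    intro x
    have hx : ∀ y : E, y = u ∨ y = v := fun y => by
      have : y ∈ ({u, v} : Set E) := huv ▸ Set.mem_univ y
      simpa using this
    have hne : (⟨t, htE⟩ : E) ≠ 1 := fun e => ne_one ht (congrArg Subtype.val e)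
    rcases hx x with e | e <;> rcases hx 1 with e1 | e1 <;> rcases hx ⟨t, htE⟩ with e2 | e2
    all_goals first
      | exact Or.inl (congrArg Subtype.val (e.trans e1.symm))
      | exact Or.inr (congrArg Subtype.val (e.trans e2.symm))
      | exact absurd (e2.trans e1.symm) hne
  exact key ⟨s, hs, hsz⟩

end Setup

end Cfsg.Agent.FiveOrbits
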